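import Mathlib

/-!
Arithmetic of the degrees in a group of order `p e n` with `e n < p ^ 2`, `n = p k + 1`, `k ≥ 2`.
-/

set_option autoImplicit false

namespace Cfsg.Agent.Block.Cube

theorem half {p e n k : ℕ} (hp : 3 ≤ p) (hn : n = p * k + 1) (hk : 2 ≤ k) (hb : e * n < p * p)
    (hed : e ∣ p - 1) : 2 * e ≤ p - 1 := by
  obtain ⟨t, ht⟩ := hed
  rcases t with _ | _ | t
  · omega
  · exfalso
    have h1 : p * 2 + 1 ≤ n := by have := Nat.mul_le_mul_left p hk; omega
    have h2 := Nat.mul_le_mul_left e h1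
    have h3 : e = p - 1 := by omega
    rw [h3] at h2 hb
    obtain ⟨r, rfl⟩ : ∃ r, p = r + 3 := ⟨p - 3, by omega⟩
    rw [show r + 3 - 1 = r + 2 by omega] at h2 hb
    nlinarith
  · have h2 := Nat.mul_le_mul_left e (show 2 ≤ t + 1 + 1 by omega)
    omega

theorem deg_cases {p e n k d : ℕ} (hp : 3 ≤ p) (hn : n = p * k + 1) (hk : 2 ≤ k) (he : 2 ≤ e)
    (hb : e * n < p * p) (hed : e ∣ p - 1) (hd : d ∣ e * n) (hd2 : 2 ≤ d)
    (hres : d % p = 1 ∨ d % p = p - 1) :
    (d % p = 1 ∧ d = n) ∨ (d % p = p - 1 ∧ d = p - 1) := by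
  have h2e := half hp hn hk hb hed
  obtain ⟨d', hd'⟩ := hd
  have hN : (e * n) % p = e := by
    rw [hn, mul_add, mul_one, ← mul_assoc, mul_comm e p, mul_assoc, Nat.mul_add_mod,
      Nat.mod_eq_of_lt (by omega)]
  have hd'0 : 0 < d' := Nat.pos_of_ne_zero fun h => by
    rw [h, mul_zero] at hd'
    have : 0 < e * n := Nat.mul_pos (by omega) (by omega)
    omega
  have hdiv := Nat.div_add_mod d p
  rcases hres with hr | hr
  · left
    refine ⟨hr, ?_⟩
    rw [hr] at hdiv
    rcases Nat.lt_or_ge (d / p) 2 with hq | hq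
    · exfalso
      have hq1 : d / p = 1 := by
        rcases Nat.eq_zero_or_pos (d / p) with h | h
        · rw [h, mul_zero] at hdiv; omega
        · exact Nat.le_antisymm (Nat.lt_succ_iff.1 hq) h
      rw [hq1, mul_one] at hdiv
      have hp1 : (d' % p) = ((p + 1) * d') % p := by rw [Nat.add_mul, one_mul, Nat.mul_add_mod]
      have hj : d' < p := by
        by_contra hge
        push Not at hge
        have := Nat.mul_le_mul (show p ≤ d by omega) hge
        omega
      have h3 : d' % p = e := by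
        rw [← hN, hd', ← hdiv, hp1]
      rw [Nat.mod_eq_of_lt hj] at h3
      rw [h3, mul_comm d e] at hd'
      have h4 := Nat.eq_of_mul_eq_mul_left (show 0 < e by omega) hd'
      have h5 := Nat.mul_le_mul_left p hk
      omega
    · have hj : d' < p := by
        by_contra hge
        push Not at hge
        have hdp : p ≤ d := by have := Nat.mul_le_mul_left p hq; omega
        have := Nat.mul_le_mul hdp hge
        omega
      have h3 : d' % p = e := by
        rw [← hN, hd', ← hdiv, Nat.add_mul, one_mul, Nat.mul_assoc, Nat.mul_add_mod]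
      rw [Nat.mod_eq_of_lt hj] at h3
      rw [h3, mul_comm d e] at hd'
      exact (Nat.eq_of_mul_eq_mul_left (show 0 < e by omega) hd').symm
  · right
    refine ⟨hr, ?_⟩
    rw [hr] at hdiv
    rcases Nat.eq_zero_or_pos (d / p) with hq | hq
    · rw [hq, mul_zero] at hdiv; omega
    exfalso
    have hd1 : 2 * p ≤ d + 1 := by have := Nat.mul_le_mul_left p hq; omega
    have hj : 2 * d' ≤ p + 1 := by
      by_contra hge
      push Not at hge
      have h6 := Nat.mul_le_mul hd1 (show p + 2 ≤ 2 * d' by omega)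
      have h7 : (d + 1) * (2 * d') = 2 * (d * d') + 2 * d' := by ring
      have h8 : 2 * p * (p + 2) = 2 * (p * p) + 4 * p := by ring
      rw [h7, h8, ← hd'] at h6
      have h9 : (2 * p - 1) * d' ≤ d * d' := Nat.mul_le_mul_right d' (by omega)
      have h10 : (2 * p - 1) * d' + d' = 2 * p * d' := by
        rw [← Nat.succ_mul, Nat.succ_eq_add_one, Nat.sub_add_cancel (by omega)]
      have h11 : d' ≤ p := by
        by_contra hgt
        push Not at hgt
        have := Nat.mul_le_mul (show p ≤ d by omega) hgt.le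
        omega
      omega
    have h3 : (e + d') % p = 0 := by
      have h4 : p ∣ d * d' + d' := by
        refine ⟨(d / p + 1) * d', ?_⟩
        rw [← Nat.succ_mul, Nat.succ_eq_add_one, ← mul_assoc, mul_add, mul_one]
        congr 1
        omega
      rw [← hd'] at h4
      have := Nat.mod_eq_zero_of_dvd h4
      rw [Nat.add_mod, hN] at this
      rw [Nat.add_mod, Nat.mod_eq_of_lt (show e < p by omega)]
      exact this
    obtain ⟨j, hj3⟩ := Nat.dvd_of_mod_eq_zero h3
    have hj1 : j = 1 := by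
      rcases j with _ | _ | j
      · omega
      · rfl
      · exfalso
        have := Nat.mul_le_mul_left p (show 2 ≤ j + 1 + 1 by omega)
        omega
    rw [hj1, mul_one] at hj3
    have he2 : 2 * e + 1 = p := by omega
    have hd'2 : d' = e + 1 := by omega
    have hk2 : k = 2 := by
      by_contra hne
      have h5 := Nat.mul_le_mul_left p (show 3 ≤ k by omega)
      have h6 := Nat.mul_le_mul_left e (show p * 3 + 1 ≤ n by omega)
      nlinarith
    subst hk2
    rw [hd'2, hn, ← he2] at hd'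
    have hdv : (e + 1) ∣ e * ((2 * e + 1) * 2 + 1) := ⟨d, by rw [hd', mul_comm]⟩
    have h8 : (((e + 1 : ℕ)) : ℤ) ∣ ((e * ((2 * e + 1) * 2 + 1) : ℕ) : ℤ) :=
      Int.natCast_dvd_natCast.2 hdv
    push_cast at h8
    have h9 : ((e : ℤ) + 1) ∣ 1 := by
      have h10 := dvd_sub h8 (dvd_mul_right ((e : ℤ) + 1) (4 * (e : ℤ) - 1))
      rwa [show (e : ℤ) * ((2 * (e : ℤ) + 1) * 2 + 1) - ((e : ℤ) + 1) * (4 * (e : ℤ) - 1) = 1 by ring] at h10
    have := Int.le_of_dvd one_pos h9
    omega

theorem n_eq {p e n k t : ℕ} (hp : 3 ≤ p) (hn : n = p * k + 1) (hk : 2 ≤ k) (he : 2 ≤ e)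
    (hb : e * n < p * p) (ht : e * t = p - 1) (hd : p - 1 ∣ e * n) : n = t * (p - e) := by
  have h2e := half hp hn hk hb ⟨t, ht.symm⟩
  obtain ⟨j, hj⟩ := hd
  have hjle : j ≤ p + 1 := by
    by_contra hgt
    push Not at hgt
    have h1 := Nat.mul_le_mul_left (p - 1) (show p + 2 ≤ j by omega)
    obtain ⟨r, rfl⟩ : ∃ r, p = r + 3 := ⟨p - 3, by omega⟩
    rw [show r + 3 - 1 = r + 2 by omega] at h1 hj
    nlinarith
  have h3 : p ∣ e + j := by
    have h4 : (p : ℤ) ∣ (e : ℤ) + j := by
      refine ⟨(j : ℤ) - (e : ℤ) * k, ?_⟩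
      have h5 : ((e * n : ℕ) : ℤ) = (((p - 1) * j : ℕ) : ℤ) := by rw [hj]
      push_cast [Nat.cast_sub (show 1 ≤ p by omega)] at h5
      subst hn
      push_cast at h5
      linear_combination h5
    exact_mod_cast h4
  obtain ⟨i, hi⟩ := h3
  have hi1 : i = 1 := by
    rcases i with _ | _ | i
    · omega
    · rfl
    · exfalso
      have := Nat.mul_le_mul_left p (show 2 ≤ i + 1 + 1 by omega)
      omega
  rw [hi1, mul_one] at hi
  rw [show j = p - e by omega, ← ht, mul_assoc] at hj
  exact Nat.eq_of_mul_eq_mul_left (show 0 < e by omega) hj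

theorem y_eq {p e n t dy : ℕ} (hp : p.Prime) (he : 2 ≤ e) (ht : e * t = p - 1) (ht3 : 3 ≤ t)
    (hnt : n = t * (p - e)) (hdy : dy ∣ e * n) (hsq : dy * dy < p * (e * n)) (hlow : p ≤ 2 * dy + 1)
    {ε J : ℤ} (hε : ε = 1 ∨ ε = -1) (hval : ε * (dy : ℤ) = (e : ℤ) - (p : ℤ) * J) :
    J = 1 ∧ ε = -1 ∧ dy + e = p := by
  have hp2 := hp.two_le
  have h3e : e * 3 ≤ p - 1 := ht ▸ Nat.mul_le_mul_left e ht3
  obtain ⟨d2, hd2⟩ := hdy
  have hNeq : e * n = (p - 1) * (p - e) := by rw [hnt, ← mul_assoc, ht]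
  have hN : ((e * n : ℕ) : ℤ) = ((p : ℤ) - 1) * ((p : ℤ) - e) := by
    rw [hNeq]
    push_cast [Nat.cast_sub (show 1 ≤ p by omega), Nat.cast_sub (show e ≤ p by omega)]
    ring
  have hdd : (dy : ℤ) * (d2 : ℤ) = ((p : ℤ) - 1) * ((p : ℤ) - e) := by
    rw [← hN, hd2]; push_cast; ring
  have hpe : ¬ (p : ℤ) ∣ (e : ℤ) := fun h => by
    have := Nat.le_of_dvd (by omega) (Int.natCast_dvd_natCast.1 h)
    omega
  have hd2pos : 0 < (d2 : ℤ) := by
    rcases Nat.eq_zero_or_pos d2 with h | h
    · exfalso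
      rw [h, mul_zero, hNeq] at hd2
      rcases Nat.mul_eq_zero.1 hd2 with h' | h' <;> omega
    · exact_mod_cast h
  have hpi : (0 : ℤ) < p := by exact_mod_cast hp.pos
  have hei : (2 : ℤ) ≤ e := by exact_mod_cast he
  have h3ei : 3 * (e : ℤ) + 1 ≤ p := by
    have : 3 * e + 1 ≤ p := by omega
    exact_mod_cast this
  rcases le_or_gt J 0 with hJ | hJ
  · exfalso
    have hpos : (0 : ℤ) < (e : ℤ) - (p : ℤ) * J := by nlinarith
    rcases hε with rfl | rfl
    swap
    · have : (0 : ℤ) ≤ dy := Nat.cast_nonneg _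
      linarith
    rw [one_mul] at hval
    rcases eq_or_lt_of_le hJ with rfl | hJ'
    · rw [mul_zero, sub_zero] at hval
      have : dy = e := by exact_mod_cast hval
      omega
    have hbig : (p : ℤ) + e ≤ dy := by nlinarith
    have hlt : (d2 : ℤ) < p := by
      by_contra hge
      push Not at hge
      nlinarith
    have hdvd : (p : ℤ) ∣ ((d2 : ℤ) - 1) * (e : ℤ) := by
      refine ⟨(p : ℤ) - 1 - (e : ℤ) + J * (d2 : ℤ), ?_⟩
      rw [hval] at hdd
      linear_combination hdd
    rcases Int.Prime.dvd_mul' hp hdvd with h | h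
    · have hd1 : (d2 : ℤ) = 1 := by
        have := Int.eq_zero_of_abs_lt_dvd h (by rw [abs_lt]; constructor <;> linarith)
        linarith
      rw [hd1, mul_one] at hdd
      have hd1' : d2 = 1 := by exact_mod_cast hd1
      rw [hd1', mul_one] at hd2
      rw [hd2] at hsq
      have : dy < p := Nat.lt_of_mul_lt_mul_right hsq
      have : (dy : ℤ) < p := by exact_mod_cast this
      linarith
    · exact hpe h
  · have hneg : (e : ℤ) - (p : ℤ) * J < 0 := by nlinarith
    rcases hε with rfl | rfl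
    · exfalso
      have : (0 : ℤ) ≤ dy := Nat.cast_nonneg _
      linarith
    rcases eq_or_lt_of_le (show (1 : ℤ) ≤ J by omega) with rfl | hJ'
    · refine ⟨rfl, rfl, ?_⟩
      have : (dy : ℤ) + e = p := by linarith
      exact_mod_cast this
    exfalso
    have hbig : 2 * (p : ℤ) - e ≤ dy := by nlinarith
    have hdvd : (p : ℤ) ∣ ((d2 : ℤ) + 1) * (e : ℤ) := by
      refine ⟨J * (d2 : ℤ) - (p : ℤ) + 1 + (e : ℤ), ?_⟩
      have hdy' : (dy : ℤ) = (p : ℤ) * J - e := by linarith
      rw [hdy'] at hdd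
      linear_combination -hdd
    rcases Int.Prime.dvd_mul' hp hdvd with h | h
    · have h1 := Int.le_of_dvd (by linarith) h
      have h2 := mul_le_mul hbig (show (p : ℤ) - 1 ≤ d2 by linarith) (by linarith) (by linarith)
      nlinarith
    · exact hpe h

end Cfsg.Agent.Block.Cube
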