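import Mathlib
import Cfsg.Agent.Lib.Block.OrderPrimeSelfFull
import Cfsg.Agent.Lib.Block.Cube.Arith
import Cfsg.Agent.S4503

/-!
A simple group with a self-centralizing Sylow subgroup of order `p`, `[G : N(P)] = p k + 1`, `k ≥ 2`
and `|G| < p ^ 3`: all degrees in the principal block.
-/

set_option autoImplicit false
set_option linter.unusedSectionVars false

namespace Cfsg.Agent.Block.Cube

open scoped ComplexConjugate
open Cfsg Cfsg.Agent.Block Cfsg.Agent.Char

universe u

/-- Everything the degree analysis yields. -/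
structure Shape (G : Type u) [Group G] [Fintype G] (p : ℕ) [Fact p.Prime] where
  S : OrdP.Self G p
  e : ℕ
  t : ℕ
  q : ℕ
  c : ℕ
  het : e * t + 1 = p
  hq : q + e = p
  hct : c * t + 2 = e
  ht : 3 ≤ t
  hcard : Nat.card G = p * (e * t) * q
  hidx : (Subgroup.normalizer ((Subgroup.zpowers S.u : Subgroup G) : Set G)).index = t * q
  hsyl : ∀ g : G, orderOf g = p → ∃ a : G, a * g * a⁻¹ ∈ Subgroup.zpowers S.u
  B : Finset (IrrCharacter G)
  C : Finset (IrrCharacter G)
  Y : Finset (IrrCharacter G)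
  R : Finset (IrrCharacter G)
  hB : B.card + c + 1 = e
  hC : C.card = c
  hY : Y.card = t
  split : ∀ F : IrrCharacter G → ℂ, ∑ χ, F χ =
    F (trivialIrr G) + ∑ χ ∈ B, F χ + ∑ χ ∈ C, F χ + ∑ χ ∈ Y, F χ + ∑ χ ∈ R, F χ
  nontriv : ∀ χ : IrrCharacter G, χ ∈ B ∨ χ ∈ C ∨ χ ∈ Y ∨ χ ∈ R → χ ≠ trivialIrr G
  dB : ∀ χ ∈ B, charDegree (χ : G → ℂ) = e * t
  dC : ∀ χ ∈ C, charDegree (χ : G → ℂ) = t * q
  dY : ∀ χ ∈ Y, charDegree (χ : G → ℂ) = q
  vB : ∀ χ ∈ B, ∀ i : ℤ, S.u ^ i ≠ 1 → (χ : G → ℂ) (S.u ^ i) = -1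
  vC : ∀ χ ∈ C, ∀ i : ℤ, S.u ^ i ≠ 1 → (χ : G → ℂ) (S.u ^ i) = 1
  vR : ∀ χ ∈ R, ∀ i : ℤ, S.u ^ i ≠ 1 → (χ : G → ℂ) (S.u ^ i) = 0
  rel : ∀ θ ∈ Y, ∀ g : G, ¬ p ∣ orderOf g →
    -((θ : G → ℂ) g) = 1 + ∑ χ ∈ C, (χ : G → ℂ) g - ∑ χ ∈ B, (χ : G → ℂ) g

variable {G : Type u} [Group G] [Fintype G] {p : ℕ} [Fact p.Prime] {M : Ideal AlgInt}

theorem blk (hM : IsPModular p M) (hodd : p ≠ 2) (P : Sylow p G) (hP : Nat.card P = p) {e : ℕ}
    (he : (Subgroup.centralizer ((P : Subgroup G) : Set G)).relIndex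
      (Subgroup.normalizer ((P : Subgroup G) : Set G)) = e) (he1 : 1 < e) (hep : e ∣ p - 1)
    (hne : e ≠ p - 1) :
    ∃ (X Y : Finset (IrrCharacter G)) (s : IrrCharacter G → ℤ) (ε : ℤ),
      trivialIrr G ∉ X ∧ trivialIrr G ∉ Y ∧ Disjoint X Y ∧
      (∀ χ, χ ∈ principalBlock M G ↔ χ = trivialIrr G ∨ χ ∈ X ∨ χ ∈ Y) ∧
      X.card + 1 = e ∧ Y.card = (p - 1) / e ∧
      (∀ χ ∈ X, (s χ = 1 ∨ s χ = -1) ∧ (charDegree (χ : G → ℂ) : ℤ) ≡ s χ [ZMOD p] ∧
        ∀ x ∈ (P : Subgroup G), x ≠ 1 → (χ : G → ℂ) x = (s χ : ℂ)) ∧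
      (ε = 1 ∨ ε = -1) ∧ (∀ θ ∈ Y, (charDegree (θ : G → ℂ) : ℤ) ≡ ε * (e : ℤ) [ZMOD p]) ∧
      ∀ θ ∈ Y, ∀ g : G, ¬ p ∣ orderOf g →
        (ε : ℂ) * (θ : G → ℂ) g = 1 + ∑ χ ∈ X, (s χ : ℂ) * (χ : G → ℂ) g := by
  classical
  have hp : p.Prime := Fact.out
  obtain ⟨X, Y, hXY, hdisj, hX, hY, s, ε, hdX, hε, hdY, hagree, hreg⟩ :=
    Cfsg.Agent.S4441.result p M hM hodd P hP e he
  set τ := trivialIrr G with hτ
  have hτB : τ ∈ principalBlock M G := trivial_mem_principalBlock hM
  have hτd : charDegree (τ : G → ℂ) = 1 := charDeg_trivial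
  have hτY : τ ∉ Y := by
    intro h
    have h1 := hdY τ h
    rw [hτd, Nat.cast_one] at h1
    have he' : e + 1 ≤ p - 1 := by
      have h2 := hp.two_le
      have := Nat.le_of_dvd (by omega) hep
      omega
    rcases hε with rfl | rfl
    · rw [one_mul, Int.modEq_iff_dvd] at h1
      have := Int.le_of_dvd (by omega) h1
      omega
    · rw [Int.modEq_iff_dvd] at h1
      have h2 : (p : ℤ) ∣ (e : ℤ) + 1 := by
        have := dvd_neg.2 h1
        simpa [add_comm] using this
      have := Int.le_of_dvd (by omega) h2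
      omega
  have hτX : τ ∈ X := by rw [hXY] at hτB; exact hτB.resolve_right hτY
  obtain ⟨hsτ, hsτd, -⟩ := hdX τ hτX
  have hsτ1 : s τ = 1 := by
    refine hsτ.resolve_right fun h => ?_
    rw [hτd, h, Nat.cast_one, Int.modEq_iff_dvd] at hsτd
    have := Int.le_of_dvd (by omega) (dvd_neg.2 hsτd)
    have := hp.two_le
    omega
  refine ⟨X.toFinset.erase τ, Y.toFinset, s, ε, by simp, by simpa using hτY, ?_, fun χ => ?_, ?_, ?_,
    fun χ hχ => ?_, hε, fun θ hθ => hdY θ (Set.mem_toFinset.1 hθ), fun θ hθ g hg => ?_⟩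
  · exact (Set.disjoint_toFinset.2 hdisj).mono_left (Finset.erase_subset _ _)
  · rw [hXY, Set.mem_union, Finset.mem_erase, Set.mem_toFinset, Set.mem_toFinset]
    by_cases h : χ = τ
    · subst h; simp [hτX]
    · simp [h]
  · rw [Finset.card_erase_of_mem (Set.mem_toFinset.2 hτX), ← Set.ncard_eq_toFinset_card',
      ← Nat.card_coe_set_eq, hX]
    omega
  · rw [← Set.ncard_eq_toFinset_card', ← Nat.card_coe_set_eq, hY]
  · have hχX : χ ∈ X := Set.mem_toFinset.1 (Finset.mem_of_mem_erase hχ)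
    obtain ⟨h1, h2, h3⟩ := hdX χ hχX
    refine ⟨h1, h2, fun x hx hx1 => ?_⟩
    have := h3 x hx hx1 1 (one_mem _) (by rw [orderOf_one]; exact hp.not_dvd_one)
    rwa [mul_one] at this
  · have h := hreg θ (Set.mem_toFinset.1 hθ) g hg
    rw [finsum_mem_eq_toFinset_sum, ← Finset.add_sum_erase _ _ (Set.mem_toFinset.2 hτX), hsτ1] at h
    rw [h]
    simp [hτ, trivialIrr]

variable [IsSimpleGroup G]

/-- The degree analysis. -/
theorem shape (hna : ¬ IsMulCommutative G) (hM : IsPModular p M) (hp5 : 5 ≤ p) (P : Sylow p G)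
    (hP : Nat.card P = p) {e k : ℕ} (hk : 2 ≤ k)
    (he : (Subgroup.centralizer ((P : Subgroup G) : Set G)).relIndex
      (Subgroup.normalizer ((P : Subgroup G) : Set G)) = e) (he1 : 1 < e) (hep : e ∣ p - 1)
    (hC : Nat.card (Subgroup.centralizer ((P : Subgroup G) : Set G)) = p)
    (hcard : Nat.card G = p * (e * (p * k + 1))) (hlt : Nat.card G < p ^ 3)
    (hidx : (Subgroup.normalizer ((P : Subgroup G) : Set G)).index = p * k + 1) :
    Nonempty (Shape G p) := by
  classical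
  have hp : p.Prime := Fact.out
  set n := p * k + 1 with hn
  have hb : e * n < p * p := by
    rw [hcard, show p ^ 3 = p * (p * p) by ring] at hlt
    exact Nat.lt_of_mul_lt_mul_left hlt
  have h2e := half (by omega) hn hk hb hep
  obtain ⟨X, Y, s, ε, hτX, hτY, hdisj, hmem, hXc, hYc, hX, hε, hdY, hrel⟩ :=
    blk hM (by omega) P hP he he1 hep (by omega)
  obtain ⟨t, ht⟩ := hep
  have ht' : e * t = p - 1 := ht.symm
  rw [ht, Nat.mul_div_cancel_left t (by omega)] at hYc
  set T := (Finset.univ : Finset (IrrCharacter G)) with hT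
  have hsq : ∀ χ : IrrCharacter G, χ ≠ trivialIrr G →
      charDegree (χ : G → ℂ) * charDegree (χ : G → ℂ) < Nat.card G := by
    intro χ hχ
    have h := regular_expansion (G := G) (1 : G)
    rw [if_pos rfl] at h
    simp only [charDeg_spec'] at h
    have h' : ∑ ξ : IrrCharacter G, charDegree (ξ : G → ℂ) * charDegree (ξ : G → ℂ) = Nat.card G := by
      exact_mod_cast h
    have h1 : charDegree (χ : G → ℂ) * charDegree (χ : G → ℂ) +
        charDegree (trivialIrr G : G → ℂ) * charDegree (trivialIrr G : G → ℂ) ≤ Nat.card G := by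
      rw [← h', ← Finset.sum_pair (f := fun ξ : IrrCharacter G =>
        charDegree (ξ : G → ℂ) * charDegree (ξ : G → ℂ)) hχ]
      exact Finset.sum_le_sum_of_subset (Finset.subset_univ _)
    have h2 := charDeg_pos (trivialIrr G)
    nlinarith
  have hdvd : ∀ χ : IrrCharacter G, ¬ p ∣ charDegree (χ : G → ℂ) →
      charDegree (χ : G → ℂ) ∣ e * n := fun χ hχ => by
    have h := charDeg_dvd χ
    rw [hcard] at h
    exact (Nat.Coprime.dvd_mul_left ((hp.coprime_iff_not_dvd.2 hχ).symm)).1 h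
  have hdegX : ∀ χ ∈ X, (s χ = 1 ∧ charDegree (χ : G → ℂ) = n) ∨
      (s χ = -1 ∧ charDegree (χ : G → ℂ) = p - 1) := by
    intro χ hχ
    obtain ⟨hs, hd, -⟩ := hX χ hχ
    have hne : χ ≠ trivialIrr G := fun h => hτX (h ▸ hχ)
    have hres : (s χ = 1 ∧ charDegree (χ : G → ℂ) % p = 1) ∨
        (s χ = -1 ∧ charDegree (χ : G → ℂ) % p = p - 1) := by
      rw [Int.ModEq] at hd
      rcases hs with hs | hs <;> rw [hs] at hd
      · left
        refine ⟨hs, ?_⟩
        rw [show (1 : ℤ) = ((1 : ℕ) : ℤ) from rfl, ← Int.natCast_mod, ← Int.natCast_mod,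
          Nat.one_mod_eq_one.2 (by omega)] at hd
        exact_mod_cast hd
      · right
        refine ⟨hs, ?_⟩
        rw [show (-1 : ℤ) % (p : ℤ) = ((p - 1 : ℕ) : ℤ) by
          rw [Int.neg_emod, if_neg (by intro h; have := Int.le_of_dvd one_pos h; omega),
            Int.emod_eq_of_lt (by norm_num) (by omega), Int.natAbs_natCast]
          omega, ← Int.natCast_mod] at hd
        exact_mod_cast hd
    have hnp : ¬ p ∣ charDegree (χ : G → ℂ) := fun h => by
      have h0 := Nat.mod_eq_zero_of_dvd h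
      rcases hres with ⟨-, h'⟩ | ⟨-, h'⟩ <;> omega
    rcases deg_cases (by omega) hn hk he1 hb ⟨t, ht⟩ (hdvd χ hnp) (OrdP.two_le_deg hna hne)
      (hres.imp And.right And.right) with ⟨h1, h2⟩ | ⟨h1, h2⟩
    · exact Or.inl ⟨(hres.resolve_right fun h => by omega).1, h2⟩
    · exact Or.inr ⟨(hres.resolve_left fun h => by omega).1, h2⟩
  set B := X.filter fun χ => s χ = -1 with hBdef
  set C := X.filter fun χ => ¬ s χ = -1 with hCdef
  have hBC : B.card + C.card = X.card := Finset.card_filter_add_card_filter_not _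
  have hdB : ∀ χ ∈ B, charDegree (χ : G → ℂ) = p - 1 := fun χ hχ => by
    obtain ⟨h1, h2⟩ := Finset.mem_filter.1 hχ
    rcases hdegX χ h1 with ⟨h3, -⟩ | ⟨-, h3⟩
    · rw [h2] at h3; norm_num at h3
    · exact h3
  have hdC : ∀ χ ∈ C, s χ = 1 ∧ charDegree (χ : G → ℂ) = n := fun χ hχ => by
    obtain ⟨h1, h2⟩ := Finset.mem_filter.1 hχ
    exact (hdegX χ h1).resolve_right fun h => h2 h.1
  have hsplitX : ∀ (f : IrrCharacter G → ℂ),
      ∑ χ ∈ X, (s χ : ℂ) * f χ = ∑ χ ∈ C, f χ - ∑ χ ∈ B, f χ := by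
    intro f
    rw [← Finset.sum_filter_add_sum_filter_not X fun χ => s χ = -1, ← hBdef, ← hCdef,
      Finset.sum_congr rfl (g := fun χ => -f χ) (fun χ (hχ : χ ∈ B) => by
        rw [(Finset.mem_filter.1 hχ).2]; push_cast; ring),
      Finset.sum_congr rfl (g := fun χ => f χ) (fun χ (hχ : χ ∈ C) => by
        rw [(hdC χ hχ).1]; push_cast; ring), Finset.sum_neg_distrib]
    ring
  obtain ⟨y, hy⟩ := Finset.card_pos.1 (show 0 < Y.card by
    rw [hYc]
    exact Nat.pos_of_ne_zero fun h => by rw [h, mul_zero] at ht'; omega)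
  have h1reg : ¬ p ∣ orderOf (1 : G) := by rw [orderOf_one]; exact hp.not_dvd_one
  have hsum : ε * (charDegree (y : G → ℂ) : ℤ) =
      1 + (C.card : ℤ) * n - (B.card : ℤ) * ((p : ℤ) - 1) := by
    apply Int.cast_injective (α := ℂ)
    have h := hrel y hy 1 h1reg
    rw [hsplitX, Finset.sum_congr rfl (g := fun _ => ((n : ℕ) : ℂ)) (fun χ (hχ : χ ∈ C) => by
        rw [charDeg_spec', (hdC χ hχ).2]), Finset.sum_const,
      Finset.sum_congr rfl (g := fun _ => ((p - 1 : ℕ) : ℂ)) (fun χ (hχ : χ ∈ B) => by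
        rw [charDeg_spec', hdB χ hχ]), Finset.sum_const, charDeg_spec', nsmul_eq_mul, nsmul_eq_mul,
      Nat.cast_sub hp.one_le, Nat.cast_one] at h
    push_cast
    linear_combination h
  have hpe : ¬ (p : ℤ) ∣ (e : ℤ) := fun h => by
    have := Nat.le_of_dvd (by omega) (Int.natCast_dvd_natCast.1 h)
    omega
  have hypn : ¬ p ∣ charDegree (y : G → ℂ) := fun h => by
    have h1 := (Int.modEq_zero_iff_dvd).1
      ((hdY y hy).symm.trans (Int.modEq_zero_iff_dvd.2 (Int.natCast_dvd_natCast.2 h)))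
    rcases hε with rfl | rfl
    · exact hpe (by rwa [one_mul] at h1)
    · exact hpe (by rwa [neg_one_mul, dvd_neg] at h1)
  have hBne : B.Nonempty := by
    rw [Finset.nonempty_iff_ne_empty]
    intro hB0
    rw [hB0, Finset.card_empty] at hBC hsum
    push_cast at hsum
    rw [zero_mul, sub_zero] at hsum
    have hpos : (0 : ℤ) < 1 + (C.card : ℤ) * n := 
      add_pos_of_pos_of_nonneg one_pos (mul_nonneg (Nat.cast_nonneg _) (Nat.cast_nonneg _))
    rcases hε with rfl | rfl
    · rw [one_mul] at hsum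
      have h1 : charDegree (y : G → ℂ) = 1 + C.card * n := by exact_mod_cast hsum
      have h2 := hdvd y hypn
      rw [h1] at h2
      have hcop : Nat.Coprime (1 + C.card * n) n := by
        rw [Nat.coprime_add_mul_right_left]; exact Nat.coprime_one_left n
      have h3 := Nat.le_of_dvd (by omega) (hcop.dvd_of_dvd_mul_right h2)
      have h4 := Nat.le_mul_of_pos_left n (show 0 < C.card by omega)
      have h5 := Nat.mul_le_mul_left p hk
      omega
    · have h1 : (0 : ℤ) ≤ charDegree (y : G → ℂ) := Nat.cast_nonneg _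
      linarith
  obtain ⟨χb, hχb⟩ := hBne
  have hnpb : ¬ p ∣ p - 1 := fun h => by have := Nat.le_of_dvd (by omega) h; omega
  have hnt : n = t * (p - e) := n_eq (by omega) hn hk he1 hb ht'
    (hdB χb hχb ▸ hdvd χb (by rw [hdB χb hχb]; exact hnpb))
  have ht3 : 3 ≤ t := by
    by_contra hlt'
    push Not at hlt'
    have h2 := Nat.mul_le_mul_right (p - e) (show t ≤ 2 by omega)
    have h3 := Nat.mul_le_mul_left p hk
    omega
  have hk' : k + 1 = t := by
    have h1 : ((n : ℕ) : ℤ) = (t : ℤ) * ((p : ℤ) - e) := by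
      rw [hnt]; push_cast [Nat.cast_sub (show e ≤ p by omega)]; ring
    have h2 : ((p - 1 : ℕ) : ℤ) = (e : ℤ) * t := by rw [← ht']; push_cast; ring
    rw [Nat.cast_sub hp.one_le, Nat.cast_one] at h2
    rw [hn] at h1
    push_cast at h1
    have h3 : (p : ℤ) * ((k : ℤ) + 1 - t) = 0 := by linear_combination h1 + h2
    rcases mul_eq_zero.1 h3 with h4 | h4
    · exact absurd h4 (by exact_mod_cast hp.ne_zero)
    · exact_mod_cast (by linarith : ((k : ℤ) + 1) = t)
  have hlow : p ≤ 2 * charDegree (y : G → ℂ) + 1 := by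
    refine Cfsg.Agent.S4503.result p hp ⟨e * n, hcard⟩ ?_ ?_ (y : G → ℂ) (IsIrr.isCharacter y.2)
      fun g hg => OrdP.eq_one_of_value (fun h => hτY (h ▸ hy)) hg
    · rw [hcard, pow_two]
      intro h
      have h1 := Nat.dvd_of_mul_dvd_mul_left hp.pos h
      rcases hp.dvd_mul.1 h1 with h2 | h2
      · exact hpe (Int.natCast_dvd_natCast.2 h2)
      · rw [hn] at h2
        exact hp.not_dvd_one ((Nat.dvd_add_right (dvd_mul_right p k)).1 h2)
    · intro H hH hHc
      rcases IsSimpleGroup.eq_bot_or_eq_top_of_normal H hH with h | h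
      · rw [h, Subgroup.card_bot] at hHc
        exact hp.ne_one hHc.symm
      · rw [h, Subgroup.card_top, hcard] at hHc
        have h1 : e * n = 1 := Nat.eq_of_mul_eq_mul_left hp.pos (hHc.trans (mul_one p).symm)
        have := Nat.eq_one_of_mul_eq_one_right h1
        omega
  have hJ := y_eq hp he1 ht' ht3 hnt (hdvd y hypn)
    (by have := hsq y (fun h => hτY (h ▸ hy)); rwa [hcard] at this) hlow hε
    (J := (B.card : ℤ) - (C.card : ℤ) * k) (by
      rw [hsum, hn]
      have h1 : ((B.card : ℤ) + C.card + 1) = (e : ℤ) := by exact_mod_cast (by omega : B.card + C.card + 1 = e)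
      push_cast
      linear_combination h1)
  obtain ⟨hJ1, rfl, hyd⟩ := hJ
  have hct : C.card * t + 2 = e := by
    have h1 : ((C.card * t + 2 : ℕ) : ℤ) = ((e : ℕ) : ℤ) := by
      have h2 : ((B.card : ℤ) + C.card + 1) = (e : ℤ) := by exact_mod_cast (by omega : B.card + C.card + 1 = e)
      have h3 : ((k : ℤ) + 1) = t := by exact_mod_cast hk'
      push_cast
      rw [← h3]
      linear_combination h2 - hJ1
    exact_mod_cast h1
  have heven : 2 ∣ e := by
    by_contra hodd
    have h1 : e % 2 = 1 := by omega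
    have h2 : (e * t) % 2 = 0 := by
      rw [ht']
      have := hp.odd_of_ne_two (by omega)
      obtain ⟨r, hr⟩ := this
      omega
    have h3 : t % 2 = 0 := by rw [Nat.mul_mod, h1, one_mul] at h2; omega
    have h4 : (C.card * t) % 2 = 0 := by rw [Nat.mul_mod, h3, mul_zero, Nat.zero_mod]
    omega
  obtain ⟨S, hSu⟩ := OrdP.exists_self P hP (by omega) hC he heven
  have hz : Subgroup.zpowers S.u = (P : Subgroup G) :=
    Subgroup.eq_of_le_of_card_ge (Subgroup.zpowers_le.2 hSu)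
      (by rw [Nat.card_zpowers, S.hu, show Nat.card (P : Subgroup G) = p from hP])
  set R := Finset.univ \ (insert (trivialIrr G) (X ∪ Y)) with hRdef
  refine ⟨{
    S := S, e := e, t := t, q := p - e, c := C.card
    het := by omega
    hq := by omega
    hct := hct
    ht := ht3
    hcard := by rw [hcard, hnt, ← mul_assoc e, ← mul_assoc]
    hidx := by rw [hz, hidx, hnt]
    hsyl := fun g hg => ?_
    B := B, C := C, Y := Y, R := R
    hB := by omega
    hC := rfl
    hY := hYc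
    split := fun F => ?_
    nontriv := fun χ hχ h => ?_
    dB := fun χ hχ => by rw [hdB χ hχ, ht']
    dC := fun χ hχ => by rw [(hdC χ hχ).2, hnt]
    dY := fun χ hχ => ?_
    vB := fun χ hχ i hi => ?_
    vC := fun χ hχ i hi => ?_
    vR := fun χ hχ i hi => ?_
    rel := fun θ hθ g hg => ?_ }⟩
  · have hpg : IsPGroup p (Subgroup.zpowers g) :=
      IsPGroup.of_card (n := 1) (by rw [Nat.card_zpowers, hg, pow_one])
    obtain ⟨Q, hQ⟩ := hpg.exists_le_sylow
    obtain ⟨a, ha⟩ := MulAction.exists_smul_eq G Q P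
    refine ⟨a, ?_⟩
    rw [hz, ← ha, Sylow.coe_subgroup_smul]
    exact ⟨g, hQ (Subgroup.mem_zpowers g), rfl⟩
  · have h1 := Finset.sum_sdiff (f := F) (Finset.subset_univ (insert (trivialIrr G) (X ∪ Y)))
    rw [← h1, Finset.sum_insert (by simp [hτX, hτY]), Finset.sum_union hdisj,
      ← Finset.sum_filter_add_sum_filter_not X (fun χ => s χ = -1) F, ← hBdef, ← hCdef, ← hRdef]
    ring
  · rcases hχ with h' | h' | h' | h'
    · exact hτX (h ▸ (Finset.mem_filter.1 h').1)
    · exact hτX (h ▸ (Finset.mem_filter.1 h').1)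
    · exact hτY (h ▸ h')
    · rw [hRdef, Finset.mem_sdiff] at h'
      exact h'.2 (h ▸ Finset.mem_insert_self _ _)
  · have h := hrel χ hχ 1 h1reg
    rw [← hrel y hy 1 h1reg] at h
    have h2 : (χ : G → ℂ) 1 = (y : G → ℂ) 1 := mul_left_cancel₀ (by norm_num) h
    rw [charDeg_spec', charDeg_spec'] at h2
    have h3 : charDegree (χ : G → ℂ) = charDegree (y : G → ℂ) := by exact_mod_cast h2
    omega
  · obtain ⟨h1, h2⟩ := Finset.mem_filter.1 hχ
    rw [(hX χ h1).2.2 _ ((P : Subgroup G).zpow_mem hSu i) hi, h2]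
    norm_num
  · obtain ⟨h1, -⟩ := Finset.mem_filter.1 hχ
    rw [(hX χ h1).2.2 _ ((P : Subgroup G).zpow_mem hSu i) hi, (hdC χ hχ).1]
    norm_num
  · rw [hRdef, Finset.mem_sdiff, Finset.mem_insert, Finset.mem_union, ← hmem] at hχ
    have hou : orderOf (S.u ^ i) = p := by
      have h1 := Subgroup.orderOf_dvd_natCard _ (Subgroup.zpow_mem_zpowers S.u i)
      rw [Nat.card_zpowers, S.hu] at h1
      exact ((Nat.dvd_prime hp).1 h1).resolve_left fun e' => hi (orderOf_eq_one_iff.1 e')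
    let S' : OrdP.Self G p :=
      { u := S.u ^ i
        t := S.t
        hu := hou
        hC := by
          have hzz : Subgroup.zpowers (S.u ^ i) = Subgroup.zpowers S.u :=
            Subgroup.eq_of_le_of_card_ge (Subgroup.zpowers_le.2 (Subgroup.zpow_mem_zpowers S.u i))
              (by rw [Nat.card_zpowers, Nat.card_zpowers, hou, S.hu])
          have hcc : Subgroup.centralizer ({S.u ^ i} : Set G) =
              Subgroup.centralizer ({S.u} : Set G) := by
            rw [← Subgroup.centralizer_closure ({S.u ^ i} : Set G),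
              ← Subgroup.zpowers_eq_closure, hzz, Subgroup.zpowers_eq_closure,
              Subgroup.centralizer_closure]
          rw [hcc, S.hC]
        ht := S.ht
        hinv := by rw [S.tpow i, zpow_neg] }
    exact OrdP.Self.vanish S' hM χ hχ.2
  · have h := hrel θ hθ g hg
    rw [hsplitX] at h
    push_cast at h
    linear_combination h

end Cfsg.Agent.Block.Cube
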