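import Mathlib
import Cfsg.Agent.Lib.Block.Cube.Data
import Cfsg.Agent.Lib.Block.Separated
import Cfsg.Agent.Lib.Block.DegreeTwoPChar
import Cfsg.Agent.Lib.Char.ModP

/-!
A simple group of order `p (p - 1) (p - e)` as given by `Shape`: orders of elements and the values at
the involutions.
-/

set_option autoImplicit false
set_option linter.unusedSectionVars false

namespace Cfsg.Agent.Block.Cube

open scoped ComplexConjugate
open Cfsg Cfsg.Agent.Block Cfsg.Agent.Char

universe u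

namespace Shape

variable {G : Type u} [Group G] [Fintype G] [IsSimpleGroup G] {p : ℕ} [Fact p.Prime] (H : Shape G p)

theorem e_ge : 2 ≤ H.e := by have := H.hct; omega

theorem et_ge : 6 ≤ H.e * H.t := Nat.mul_le_mul H.e_ge H.ht

include H in
theorem p_ge : 7 ≤ p := by have := H.het; have := H.et_ge; omega

theorem two_dvd_et : 2 ∣ H.e * H.t := by
  have := H.het
  have := H.p_ge
  obtain ⟨k, hk⟩ := (Fact.out : p.Prime).odd_of_ne_two (by omega)
  omega

theorem q_pos : 0 < H.q := by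
  have := H.het
  have := H.hq
  have h3 := Nat.mul_le_mul_left H.e H.ht
  omega

theorem coprime : Nat.Coprime (H.e * H.t) H.q := by
  have h1 : H.q + (H.c * H.t + 1) = H.e * H.t := by
    have := H.het; have := H.hq; have := H.hct; omega
  have h2 : Nat.Coprime (H.c * H.t + 1) (H.e * H.t) := by
    refine Nat.Coprime.mul_right ?_ ?_
    · rw [← H.hct, show H.c * H.t + 2 = H.c * H.t + 1 + 1 from rfl, Nat.coprime_self_add_right]
      exact Nat.coprime_one_right _
    · rw [add_comm, Nat.coprime_add_mul_right_left]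
      exact Nat.coprime_one_left _
  rw [← h1, Nat.coprime_add_self_right] at h2
  rw [← h1, Nat.coprime_self_add_left]
  exact h2

theorem not_dvd_et : ¬ p ∣ H.e * H.t := fun h => by
  have := Nat.le_of_dvd (by have := H.et_ge; omega) h
  have := H.het
  omega

theorem not_dvd_q : ¬ p ∣ H.q := fun h => by
  have := Nat.le_of_dvd H.q_pos h
  have := H.hq
  have := H.e_ge
  omega

theorem prime_cases {l : ℕ} (hl : l.Prime) (h : l ∣ Nat.card G) :
    l = p ∨ l ∣ H.e * H.t ∨ l ∣ H.q := by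
  rw [H.hcard] at h
  rcases hl.dvd_mul.1 h with h' | h'
  · rcases hl.dvd_mul.1 h' with h'' | h''
    · exact Or.inl ((Nat.prime_dvd_prime_iff_eq hl Fact.out).1 h'')
    · exact Or.inr (Or.inl h'')
  · exact Or.inr (Or.inr h')

theorem not_both {l : ℕ} (hl : l.Prime) (h1 : l ∣ H.e * H.t) (h2 : l ∣ H.q) : False :=
  hl.one_lt.ne' (Nat.eq_one_of_dvd_coprimes H.coprime h1 h2)

theorem vanish_B {l : ℕ} (hl : l.Prime) (hle : l ∣ H.e * H.t) {χ : IrrCharacter G} (hχ : χ ∈ H.B)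
    {g : G} (hg : l ∣ orderOf g) : (χ : G → ℂ) g = 0 := by
  haveI := Fact.mk hl
  obtain ⟨M', hM'⟩ := exists_isPModular l hl
  refine defectZero_vanish hM' χ ?_ hg
  have h1 : ¬ l ∣ p := fun h => H.not_dvd_et
    ((Nat.prime_dvd_prime_iff_eq hl Fact.out).1 h ▸ hle)
  have h2 : ¬ l ∣ H.q := fun h => H.not_both hl hle h
  rw [H.dB χ hχ, H.hcard, Nat.factorization_mul (mul_ne_zero (NeZero.ne p) (by have := H.et_ge; omega))
    H.q_pos.ne', Nat.factorization_mul (NeZero.ne p) (by have := H.et_ge; omega), Finsupp.add_apply,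
    Finsupp.add_apply, Nat.factorization_eq_zero_of_not_dvd h1,
    Nat.factorization_eq_zero_of_not_dvd h2, zero_add, add_zero]

theorem vanish_CY {r : ℕ} (hr : r.Prime) (hrq : r ∣ H.q) {χ : IrrCharacter G}
    (hχ : χ ∈ H.C ∨ χ ∈ H.Y) {g : G} (hg : r ∣ orderOf g) : (χ : G → ℂ) g = 0 := by
  haveI := Fact.mk hr
  obtain ⟨M', hM'⟩ := exists_isPModular r hr
  refine defectZero_vanish hM' χ ?_ hg
  have h1 : ¬ r ∣ p := fun h => H.not_dvd_q
    ((Nat.prime_dvd_prime_iff_eq hr Fact.out).1 h ▸ hrq)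
  have h2 : ¬ r ∣ H.e * H.t := fun h => H.not_both hr h hrq
  have h3 : ¬ r ∣ H.t := fun h => h2 (h.mul_left _)
  rw [H.hcard, Nat.factorization_mul (mul_ne_zero (NeZero.ne p) (by have := H.et_ge; omega))
    H.q_pos.ne', Nat.factorization_mul (NeZero.ne p) (by have := H.et_ge; omega), Finsupp.add_apply,
    Finsupp.add_apply, Nat.factorization_eq_zero_of_not_dvd h1,
    Nat.factorization_eq_zero_of_not_dvd h2, zero_add, zero_add]
  rcases hχ with hχ | hχ
  · rw [H.dC χ hχ, Nat.factorization_mul (by have := H.ht; omega) H.q_pos.ne', Finsupp.add_apply,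
      Nat.factorization_eq_zero_of_not_dvd h3, zero_add]
  · rw [H.dY χ hχ]

theorem zpowers_eq {w : G} (hw : w ∈ Subgroup.zpowers H.S.u) (hw1 : w ≠ 1) :
    orderOf w = p ∧ Subgroup.zpowers w = Subgroup.zpowers H.S.u := by
  have h1 := Subgroup.orderOf_dvd_natCard _ hw
  rw [Nat.card_zpowers, H.S.hu] at h1
  have h2 := ((Nat.dvd_prime Fact.out).1 h1).resolve_left fun h => hw1 (orderOf_eq_one_iff.1 h)
  exact ⟨h2, Subgroup.eq_of_le_of_card_ge (Subgroup.zpowers_le.2 hw)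
    (by rw [Nat.card_zpowers, Nat.card_zpowers, h2, H.S.hu])⟩

include H in
/-- The elements of order divisible by `p` have order `p`. -/
theorem ord_eq_p {g : G} (h : p ∣ orderOf g) : orderOf g = p := by
  set v := g ^ (orderOf g / p) with hv
  have hvo : orderOf v = p := orderOf_pow_orderOf_div (orderOf_pos g).ne' h
  obtain ⟨a, ha⟩ := H.hsyl v hvo
  have hv1 : a * v * a⁻¹ ≠ 1 := fun e => by
    rw [conj_eq_one_iff] at e
    rw [e, orderOf_one] at hvo
    exact (Fact.out : p.Prime).one_lt.ne hvo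
  obtain ⟨-, hz⟩ := H.zpowers_eq ha hv1
  have hcv : Commute (a * g * a⁻¹) (a * v * a⁻¹) := by
    show a * g * a⁻¹ * (a * v * a⁻¹) = a * v * a⁻¹ * (a * g * a⁻¹)
    calc a * g * a⁻¹ * (a * v * a⁻¹) = a * (g * v) * a⁻¹ := by group
      _ = a * (v * g) * a⁻¹ := by rw [hv, (Commute.self_pow g _).eq]
      _ = _ := by group
  obtain ⟨i, hi⟩ := Subgroup.mem_zpowers_iff.1 (hz ▸ Subgroup.mem_zpowers H.S.u :
    H.S.u ∈ Subgroup.zpowers (a * v * a⁻¹))
  have hmem : a * g * a⁻¹ ∈ Subgroup.centralizer ({H.S.u} : Set G) := by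
    rw [Subgroup.mem_centralizer_singleton_iff, ← hi]
    exact hcv.zpow_right i
  have h1 := Subgroup.orderOf_dvd_natCard _ hmem
  rw [H.S.hC, ← MulAut.conj_apply, MulEquiv.orderOf_eq] at h1
  exact Nat.dvd_antisymm h1 h

theorem no_mixed {g : G} {l r : ℕ} (hl : l.Prime) (hle : l ∣ H.e * H.t) (hlg : l ∣ orderOf g)
    (hr : r.Prime) (hrq : r ∣ H.q) (hrg : r ∣ orderOf g) : False := by
  have hpg : ¬ p ∣ orderOf g := fun h => by
    rw [H.ord_eq_p h] at hlg
    exact H.not_dvd_et ((Nat.prime_dvd_prime_iff_eq hl Fact.out).1 hlg ▸ hle)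
  obtain ⟨θ, hθ⟩ := Finset.card_pos.1 (show 0 < H.Y.card by rw [H.hY]; have := H.ht; omega)
  have h := H.rel θ hθ g hpg
  rw [H.vanish_CY hr hrq (Or.inr hθ) hrg,
    Finset.sum_eq_zero fun χ hχ => H.vanish_CY hr hrq (Or.inl hχ) hrg,
    Finset.sum_eq_zero fun χ hχ => H.vanish_B hl hle hχ hlg] at h
  norm_num at h

/-- Commuting elements of distinct prime orders: both orders divide `e t` or both divide `q`. -/
theorem same_side {x y : G} (hc : Commute x y) {r l : ℕ} (hr : r.Prime) (hl : l.Prime)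
    (hne : r ≠ l) (hx : orderOf x = r) (hy : orderOf y = l) :
    r ≠ p ∧ (r ∣ H.q → l ∣ H.q) ∧ (r ∣ H.e * H.t → l ∣ H.e * H.t) := by
  have ho : orderOf (x * y) = r * l := by
    rw [hc.orderOf_mul_eq_mul_orderOf_of_coprime
      (by rw [hx, hy]; exact (Nat.coprime_primes hr hl).2 hne), hx, hy]
  have hpl : ¬ p ∣ orderOf (x * y) := fun h => by
    have h1 := H.ord_eq_p h
    rw [ho] at h1
    have hp : Nat.Prime (r * l) := h1.symm ▸ (Fact.out : p.Prime)
    exact Nat.not_prime_mul hr.ne_one hl.ne_one hp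
  rw [ho] at hpl
  have hlp : l ≠ p := fun h => hpl (h ▸ dvd_mul_left l r)
  refine ⟨fun h => hpl (h ▸ dvd_mul_right r l), fun hrq => ?_, fun hre => ?_⟩
  · rcases H.prime_cases hl (hy ▸ orderOf_dvd_natCard y) with h | h | h
    · exact absurd h hlp
    · exact (H.no_mixed hl h (ho ▸ dvd_mul_left l r) hr hrq (ho ▸ dvd_mul_right r l)).elim
    · exact h
  · rcases H.prime_cases hl (hy ▸ orderOf_dvd_natCard y) with h | h | h
    · exact absurd h hlp
    · exact h
    · exact (H.no_mixed hr hre (ho ▸ dvd_mul_right r l) hl h (ho ▸ dvd_mul_left l r)).elim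

theorem centralizer_involution {z : G} (hz : orderOf z = 2) :
    Nat.card (Subgroup.centralizer ({z} : Set G)) ∣ H.e * H.t := by
  set C := Subgroup.centralizer ({z} : Set G) with hC
  have key : ∀ l : ℕ, l.Prime → l ∣ Nat.card C → l ∣ H.e * H.t := by
    intro l hl hlC
    by_cases h2 : l = 2
    · exact h2 ▸ H.two_dvd_et
    haveI := Fact.mk hl
    obtain ⟨y, hy⟩ := exists_prime_orderOf_dvd_card' (G := C) l hlC
    exact (H.same_side (x := z) (y := (y : G))
      ((Subgroup.mem_centralizer_singleton_iff.1 y.2).symm) Nat.prime_two hl (Ne.symm h2) hz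
      (by rw [Subgroup.orderOf_coe]; exact hy)).2.2 H.two_dvd_et
  have hd : Nat.card C ∣ p * (H.e * H.t) * H.q := H.hcard ▸ Subgroup.card_subgroup_dvd_card C
  have h1 : Nat.Coprime (Nat.card C) H.q :=
    Nat.coprime_of_dvd fun l hl h h' => H.not_both hl (key l hl h) h'
  have h2 : Nat.Coprime (Nat.card C) p :=
    Nat.coprime_of_dvd fun l hl h h' => H.not_dvd_et
      ((Nat.prime_dvd_prime_iff_eq hl Fact.out).1 h' ▸ key l hl h)
  exact h2.dvd_of_dvd_mul_left (h1.dvd_of_dvd_mul_right hd)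

theorem not_dvd_orderOf_t : ¬ p ∣ orderOf H.S.t := by
  rw [H.S.ht]
  intro h
  have := Nat.le_of_dvd (by norm_num) h
  have := H.p_ge
  omega

theorem p_dvd_R {χ : IrrCharacter G} (hχ : χ ∈ H.R) : p ∣ charDegree (χ : G → ℂ) := by
  classical
  obtain ⟨n, hn⟩ := TwoP.exists_fix (Subgroup.zpowers H.S.u) χ
  rw [Nat.card_zpowers, H.S.hu, ← Finset.add_sum_erase _ _ (Finset.mem_univ (1 : Subgroup.zpowers H.S.u)),
    Finset.sum_eq_zero (s := Finset.univ.erase (1 : Subgroup.zpowers H.S.u)) (fun h hh => by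
      obtain ⟨i, hi⟩ := Subgroup.mem_zpowers_iff.1 h.2
      rw [← hi]
      refine H.vR χ hχ i fun e => Finset.ne_of_mem_erase hh (Subtype.ext ?_)
      rw [← hi, e]; rfl), add_zero, OneMemClass.coe_one, charDeg_spec'] at hn
  exact ⟨n, by exact_mod_cast hn⟩

theorem sum_Y_u : ∑ θ ∈ H.Y, (θ : G → ℂ) H.S.u = 1 := by
  classical
  have hu1 : H.S.u ^ (1 : ℤ) ≠ 1 := by rw [zpow_one]; exact H.S.u_ne
  have h := regular_expansion (G := G) H.S.u
  rw [if_neg H.S.u_ne, H.split,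
    Finset.sum_congr rfl (g := fun _ => -((H.e * H.t : ℕ) : ℂ)) (fun χ (hχ : χ ∈ H.B) => by
      rw [charDeg_spec', H.dB χ hχ, ← zpow_one H.S.u, H.vB χ hχ 1 hu1, mul_neg_one]),
    Finset.sum_congr rfl (g := fun _ => ((H.t * H.q : ℕ) : ℂ)) (fun χ (hχ : χ ∈ H.C) => by
      rw [charDeg_spec', H.dC χ hχ, ← zpow_one H.S.u, H.vC χ hχ 1 hu1, mul_one]),
    Finset.sum_congr rfl (g := fun θ : IrrCharacter G => (H.q : ℂ) * (θ : G → ℂ) H.S.u)
      (fun χ (hχ : χ ∈ H.Y) => by rw [charDeg_spec', H.dY χ hχ]),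
    Finset.sum_eq_zero (s := H.R) (fun χ hχ => by
      rw [← zpow_one H.S.u, H.vR χ hχ 1 hu1, mul_zero]),
    ← Finset.mul_sum, Finset.sum_const, Finset.sum_const, H.hC, nsmul_eq_mul, nsmul_eq_mul] at h
  simp only [trivialIrr, add_zero, mul_one] at h
  have hb : (H.B.card : ℂ) + H.c + 1 = H.e := by exact_mod_cast H.hB
  have het : (H.e : ℂ) * H.t + 1 = p := by exact_mod_cast H.het
  have hq : (H.q : ℂ) + H.e = p := by exact_mod_cast H.hq
  have hct : (H.c : ℂ) * H.t + 2 = H.e := by exact_mod_cast H.hct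
  push_cast at h
  refine mul_left_cancel₀ (Nat.cast_ne_zero.2 H.q_pos.ne' : (H.q : ℂ) ≠ 0) ?_
  rw [mul_one]
  linear_combination h + (H.e : ℂ) * (H.t : ℂ) * hb - ((H.c : ℂ) * H.t + 1) * hq - (p : ℂ) * hct
    + ((H.e : ℂ) - 1) * het

theorem sum_R_sq :
    ∑ χ ∈ H.R, ((charDegree (χ : G → ℂ) : ℂ)) ^ 2 = ((H.t : ℂ) - 1) * (p : ℂ) ^ 2 := by
  classical
  have h := Cfsg.Agent.Char.sum_degree_sq (G := G)
  rw [H.split,
    Finset.sum_congr rfl (g := fun _ => ((H.e * H.t : ℕ) : ℂ) ^ 2) (fun χ (hχ : χ ∈ H.B) => by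
      rw [charDeg_spec', H.dB χ hχ]),
    Finset.sum_congr rfl (g := fun _ => ((H.t * H.q : ℕ) : ℂ) ^ 2) (fun χ (hχ : χ ∈ H.C) => by
      rw [charDeg_spec', H.dC χ hχ]),
    Finset.sum_congr rfl (g := fun _ => (H.q : ℂ) ^ 2)
      (fun χ (hχ : χ ∈ H.Y) => by rw [charDeg_spec', H.dY χ hχ]),
    Finset.sum_congr rfl (g := fun χ : IrrCharacter G => ((charDegree (χ : G → ℂ) : ℂ)) ^ 2)
      (fun χ (_ : χ ∈ H.R) => by rw [charDeg_spec']),
    Finset.sum_const, Finset.sum_const, Finset.sum_const, H.hC, H.hY, H.hcard, nsmul_eq_mul,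
    nsmul_eq_mul, nsmul_eq_mul] at h
  simp only [trivialIrr, one_pow] at h
  have hb : (H.B.card : ℂ) + H.c + 1 = H.e := by exact_mod_cast H.hB
  have het : (H.e : ℂ) * H.t + 1 = p := by exact_mod_cast H.het
  have hq : (H.q : ℂ) + H.e = p := by exact_mod_cast H.hq
  have hct : (H.c : ℂ) * H.t + 2 = H.e := by exact_mod_cast H.hct
  push_cast at h
  rw [show (p : ℂ) = (H.e : ℂ) * H.t + 1 from het.symm] at h hq ⊢
  rw [show (H.q : ℂ) = (H.e : ℂ) * H.t + 1 - H.e by linear_combination hq] at h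
  linear_combination h - ((H.e : ℂ) * H.t) ^ 2 * hb
    + ((H.e : ℂ) ^ 2 * H.t - (H.t : ℂ) * ((H.e : ℂ) * H.t + 1 - H.e) ^ 2) * hct

end Shape

end Cfsg.Agent.Block.Cube
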