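import Mathlib
import Cfsg.Agent.Lib.Block.Cube.Values

/-!
A simple group as given by `Shape`: the involutions form one class, their centralizers have order
`e t`, and the characters outside the principal block have degree `p` times their value at an
involution.
-/

set_option autoImplicit false
set_option linter.unusedSectionVars false

namespace Cfsg.Agent.Block.Cube

open scoped ComplexConjugate
open Cfsg Cfsg.Agent.Block Cfsg.Agent.Char

universe u

namespace Shape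

variable {G : Type u} [Group G] [Fintype G] [IsSimpleGroup G] {p : ℕ} [Fact p.Prime] (H : Shape G p)

include H in
theorem not_dvd_of_two {z : G} (hz : orderOf z = 2) : (2 : ℕ) ∣ orderOf z ∧ ¬ p ∣ orderOf z := by
  refine ⟨dvd_of_eq hz.symm, fun h => ?_⟩
  rw [hz] at h
  have := Nat.le_of_dvd (by norm_num) h
  have := H.p_ge
  omega

theorem value_B_involution {z : G} (hz : orderOf z = 2) {χ : IrrCharacter G} (hχ : χ ∈ H.B) :
    (χ : G → ℂ) z = 0 :=
  H.vanish_B Nat.prime_two H.two_dvd_et hχ (dvd_of_eq hz.symm)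

theorem value_Y_involution {z : G} (hz : orderOf z = 2) {a : IrrCharacter G → ℤ}
    (ha : ∀ χ : IrrCharacter G, (χ : G → ℂ) z = (a χ : ℂ)) {θ : IrrCharacter G} (hθ : θ ∈ H.Y) :
    a θ = -(1 + ∑ χ ∈ H.C, a χ) := by
  have h := H.rel θ hθ z (H.not_dvd_of_two hz).2
  rw [Finset.sum_eq_zero (s := H.B) fun χ hχ => H.value_B_involution hz hχ] at h
  simp only [ha, sub_zero] at h
  apply Int.cast_injective (α := ℂ)
  push_cast
  linear_combination -h

/-- The class equation at an involution. -/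
theorem class_eq {z : G} (hz : orderOf z = 2) {a : IrrCharacter G → ℤ}
    (ha : ∀ χ : IrrCharacter G, (χ : G → ℂ) z = (a χ : ℂ)) :
    (Nat.card {g : G // IsConj H.S.u (z * (g * z * g⁻¹))} : ℤ) =
      (H.e : ℤ) * ((H.t : ℤ) * H.q + ∑ χ ∈ H.C, a χ ^ 2 +
        (H.t : ℤ) * (1 + ∑ χ ∈ H.C, a χ) ^ 2) := by
  classical
  have hu1 : H.S.u ^ (1 : ℤ) ≠ 1 := by rw [zpow_one]; exact H.S.u_ne
  have hY : ∀ θ ∈ H.Y, (θ : G → ℂ) z = -((1 + ∑ χ ∈ H.C, a χ : ℤ) : ℂ) := fun θ hθ => by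
    rw [ha, H.value_Y_involution hz ha hθ]; push_cast; ring
  set N := Nat.card {g : G // IsConj H.S.u (z * (g * z * g⁻¹))} with hN
  have h := H.S.formula z
  rw [H.split,
    Finset.sum_eq_zero (s := H.B) (fun χ hχ => by
      rw [H.value_B_involution hz hχ, mul_zero, zero_div]),
    Finset.sum_congr rfl (g := fun χ : IrrCharacter G => (a χ : ℂ) ^ 2 / ((H.t * H.q : ℕ) : ℂ))
      (fun χ (hχ : χ ∈ H.C) => by
        rw [← zpow_one H.S.u, H.vC χ hχ 1 hu1, map_one, ha, charDeg_spec', H.dC χ hχ]; ring),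
    Finset.sum_congr rfl (g := fun θ : IrrCharacter G => conj ((θ : G → ℂ) H.S.u) *
        ((1 + ∑ χ ∈ H.C, a χ : ℤ) : ℂ) ^ 2 / (H.q : ℂ))
      (fun θ (hθ : θ ∈ H.Y) => by rw [hY θ hθ, charDeg_spec', H.dY θ hθ]; ring),
    Finset.sum_eq_zero (s := H.R) (fun χ hχ => by
      rw [← zpow_one H.S.u, H.vR χ hχ 1 hu1, map_zero, zero_mul, zero_mul, zero_div]),
    ← Finset.sum_div, ← Finset.sum_div, ← Finset.sum_mul, ← map_sum, H.sum_Y_u, map_one,
    H.hcard, ← hN] at h
  simp only [trivialIrr, map_one, mul_one, one_mul, div_one, add_zero] at h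
  have hp0 : (p : ℂ) ≠ 0 := Nat.cast_ne_zero.2 (NeZero.ne p)
  have ht0 : (H.t : ℂ) ≠ 0 := Nat.cast_ne_zero.2 (by have := H.ht; omega)
  have hq0 : (H.q : ℂ) ≠ 0 := Nat.cast_ne_zero.2 H.q_pos.ne'
  apply Int.cast_injective (α := ℂ)
  refine mul_left_cancel₀ hp0 ?_
  rw [Int.cast_natCast, h]
  push_cast
  field_simp

/-- The values at the involution `t`. -/
theorem involution_data (hna : ¬ IsMulCommutative G) : ∃ a : IrrCharacter G → ℤ,
    (∀ χ : IrrCharacter G, (χ : G → ℂ) H.S.t = (a χ : ℂ)) ∧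
      Nat.card (Subgroup.centralizer ({H.S.t} : Set G)) = H.e * H.t ∧
      ∀ χ ∈ H.R, (charDegree (χ : G → ℂ) : ℤ) = p * a χ := by
  classical
  have hp2 : p ≠ 2 := by have := H.p_ge; omega
  have hs1 : H.S.t ≠ 1 := fun e => by
    have := H.S.ht
    rw [e, orderOf_one] at this
    omega
  choose a ha ha4 using fun χ : IrrCharacter G =>
    OrdP.involution_value hna χ (x := H.S.t) (by rw [← H.S.ht]; exact pow_orderOf_eq_one _)
  refine ⟨a, ha, ?_⟩
  set y : ℤ := 1 + ∑ χ ∈ H.C, a χ with hy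
  set A : ℤ := ∑ χ ∈ H.C, a χ ^ 2 with hA
  obtain ⟨θ, hθ⟩ := Finset.card_pos.1 (show 0 < H.Y.card by rw [H.hY]; have := H.ht; omega)
  have hy1 : 1 ≤ y ^ 2 := by
    have h4 := ha4 θ
    rw [H.value_Y_involution H.S.ht ha hθ, H.dY θ hθ, ← hy, sub_neg_eq_add] at h4
    have hqodd : ¬ 2 ∣ H.q := fun h => H.not_both Nat.prime_two H.two_dvd_et h
    have hy0 : y ≠ 0 := fun h0 => by rw [h0, add_zero] at h4; omega
    nlinarith [sq_nonneg y, Int.one_le_abs hy0, sq_abs y]
  have hA0 : 0 ≤ A := Finset.sum_nonneg fun χ _ => sq_nonneg _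
  set Cn := Nat.card (Subgroup.centralizer ({H.S.t} : Set G)) with hCn
  have heq : (Cn : ℤ) ^ 2 = (H.e : ℤ) * ((H.t : ℤ) * H.q + A + (H.t : ℤ) * y ^ 2) := by
    rw [← H.class_eq H.S.ht ha, H.S.count hp2, hCn]
    push_cast
    ring
  have hqe : (H.q : ℤ) + H.e = p := by exact_mod_cast H.hq
  have het : (H.e : ℤ) * H.t + 1 = p := by exact_mod_cast H.het
  have he2 : (2 : ℤ) ≤ H.e := by exact_mod_cast H.e_ge
  have ht3 : (3 : ℤ) ≤ H.t := by exact_mod_cast H.ht
  have hCet : Cn = H.e * H.t := by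
    obtain ⟨k, hk⟩ := H.centralizer_involution H.S.ht
    rw [← hCn] at hk
    rcases Nat.lt_or_ge k 2 with h | h
    · interval_cases k
      · have := H.et_ge; omega
      · omega
    exfalso
    have h2 : 2 * Cn ≤ H.e * H.t := by rw [hk, mul_comm 2 Cn]; exact Nat.mul_le_mul_left _ h
    have h2' : 2 * (Cn : ℤ) ≤ (H.e : ℤ) * H.t := by exact_mod_cast h2
    have h3 : 4 * (Cn : ℤ) ^ 2 ≤ ((H.e : ℤ) * H.t) ^ 2 := by
      nlinarith [pow_le_pow_left₀ (by positivity : (0 : ℤ) ≤ 2 * (Cn : ℤ)) h2' 2]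
    have h4 : (H.e : ℤ) * (4 * ((H.t : ℤ) * H.q + H.t)) ≤ (H.e : ℤ) * ((H.e : ℤ) * (H.t : ℤ) ^ 2) := by
      have h5 : (H.e : ℤ) * ((H.t : ℤ) * H.q + H.t) ≤ (Cn : ℤ) ^ 2 := by
        rw [heq]
        refine mul_le_mul_of_nonneg_left ?_ (by linarith)
        nlinarith
      nlinarith
    have h5 := le_of_mul_le_mul_left h4 (by linarith)
    have h6 : (H.t : ℤ) * (4 * ((H.q : ℤ) + 1)) ≤ (H.t : ℤ) * ((H.e : ℤ) * H.t) := by nlinarith
    have h7 := le_of_mul_le_mul_left h6 (by linarith)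
    nlinarith
  refine ⟨hCet, ?_⟩
  rw [hCet] at heq
  push_cast at heq
  have hAy : A + (H.t : ℤ) * y ^ 2 = (H.t : ℤ) * ((H.e : ℤ) - 1) := by
    refine mul_left_cancel₀ (show (H.e : ℤ) ≠ 0 by linarith) ?_
    linear_combination -heq + (H.e : ℤ) * H.t * (het - hqe)
  have hRa : ∑ χ ∈ H.R, a χ ^ 2 = (H.t : ℤ) - 1 := by
    have h := Cfsg.Agent.Char.sum_irr_mul_conj H.S.t H.S.t
    rw [if_pos (IsConj.refl _), ← hCn, hCet] at h
    simp only [ha, map_intCast] at h
    rw [H.split] at h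
    have htr : a (trivialIrr G) = 1 := by
      have := ha (trivialIrr G)
      simp only [trivialIrr] at this
      exact_mod_cast this.symm
    rw [htr] at h
    have h' : (1 : ℤ) * 1 + ∑ χ ∈ H.B, a χ * a χ + ∑ χ ∈ H.C, a χ * a χ + ∑ χ ∈ H.Y, a χ * a χ +
        ∑ χ ∈ H.R, a χ * a χ = ((H.e * H.t : ℕ) : ℤ) := by exact_mod_cast h
    rw [Finset.sum_eq_zero (s := H.B) (fun χ hχ => by
        rw [Int.cast_injective (α := ℂ) (show (a χ : ℂ) = ((0 : ℤ) : ℂ) by
          rw [← ha, H.value_B_involution H.S.ht hχ]; simp), mul_zero]),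
      Finset.sum_congr rfl (g := fun _ => y ^ 2) (fun χ (hχ : χ ∈ H.Y) => by
        rw [H.value_Y_involution H.S.ht ha hχ, ← hy]; ring),
      Finset.sum_const, H.hY, nsmul_eq_mul] at h'
    simp only [← sq, ← hA] at h'
    push_cast at h'
    linear_combination h' - hAy
  have hRda : ∑ χ ∈ H.R, (charDegree (χ : G → ℂ) : ℤ) * a χ = ((H.t : ℤ) - 1) * p := by
    have h := regular_expansion (G := G) H.S.t
    rw [if_neg hs1, H.split,
      Finset.sum_eq_zero (s := H.B) (fun χ hχ => by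
        rw [H.value_B_involution H.S.ht hχ, mul_zero]),
      Finset.sum_congr rfl (g := fun χ : IrrCharacter G => ((H.t * H.q : ℕ) : ℂ) * (a χ : ℂ))
        (fun χ (hχ : χ ∈ H.C) => by rw [charDeg_spec', H.dC χ hχ, ha]),
      Finset.sum_congr rfl (g := fun _ => (H.q : ℂ) * ((-y : ℤ) : ℂ))
        (fun χ (hχ : χ ∈ H.Y) => by
          rw [charDeg_spec', H.dY χ hχ, ha, H.value_Y_involution H.S.ht ha hχ]),
      Finset.sum_congr rfl (g := fun χ : IrrCharacter G => (charDegree (χ : G → ℂ) : ℂ) * (a χ : ℂ))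
        (fun χ (_ : χ ∈ H.R) => by rw [charDeg_spec', ha]),
      ← Finset.mul_sum, Finset.sum_const, H.hY, nsmul_eq_mul] at h
    simp only [trivialIrr, mul_one, add_zero] at h
    apply Int.cast_injective (α := ℂ)
    have hq' : (H.q : ℂ) + H.e = p := by exact_mod_cast H.hq
    have het' : (H.e : ℂ) * H.t + 1 = p := by exact_mod_cast H.het
    rw [hy] at h
    push_cast at h ⊢
    linear_combination h + (H.t : ℂ) * hq' - het'
  have hR2 : ∑ χ ∈ H.R, (charDegree (χ : G → ℂ) : ℤ) ^ 2 = ((H.t : ℤ) - 1) * (p : ℤ) ^ 2 := by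
    apply Int.cast_injective (α := ℂ)
    push_cast
    exact H.sum_R_sq
  have hzero : ∑ χ ∈ H.R, ((p : ℤ) * a χ - (charDegree (χ : G → ℂ) : ℤ)) ^ 2 = 0 := by
    simp only [sub_sq, mul_pow, Finset.sum_add_distrib, Finset.sum_sub_distrib, ← Finset.mul_sum]
    rw [hR2, hRa, Finset.sum_congr rfl (g := fun χ : IrrCharacter G =>
        (2 * (p : ℤ)) * ((charDegree (χ : G → ℂ) : ℤ) * a χ)) (fun χ _ => by ring),
      ← Finset.mul_sum, hRda]
    ring
  intro χ hχ
  have := (Finset.sum_eq_zero_iff_of_nonneg fun ξ _ => sq_nonneg _).1 hzero χ hχ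
  rw [sq_eq_zero_iff, sub_eq_zero] at this
  exact this.symm

/-- There is one class of involutions. -/
theorem conj_t (hna : ¬ IsMulCommutative G) {z : G} (hz : orderOf z = 2) : IsConj H.S.t z := by
  classical
  by_contra hnc
  choose a ha ha4 using fun χ : IrrCharacter G =>
    OrdP.involution_value hna χ (x := z) (by rw [← hz]; exact pow_orderOf_eq_one _)
  have h := H.class_eq hz ha
  rw [Nat.card_eq_zero.2 (Or.inl ⟨fun g =>
    H.S.count_zero hz (by have := H.p_ge; omega) hnc g.1 g.2⟩), Nat.cast_zero] at h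
  have he2 : (2 : ℤ) ≤ H.e := by exact_mod_cast H.e_ge
  have h2 : (0 : ℤ) < (H.t : ℤ) * H.q + ∑ χ ∈ H.C, a χ ^ 2 +
      (H.t : ℤ) * (1 + ∑ χ ∈ H.C, a χ) ^ 2 := by
    have : (0 : ℤ) < (H.t : ℤ) * H.q :=
      mul_pos (by have := H.ht; exact_mod_cast (by omega : 0 < H.t)) (by exact_mod_cast H.q_pos)
    have := Finset.sum_nonneg (s := H.C) fun χ _ => sq_nonneg (a χ)
    have : (0 : ℤ) ≤ (H.t : ℤ) * (1 + ∑ χ ∈ H.C, a χ) ^ 2 := by positivity
    linarith
  nlinarith

theorem card_involutions (hna : ¬ IsMulCommutative G) :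
    Nat.card {z : G // orderOf z = 2} = p * H.q := by
  classical
  obtain ⟨a, -, hC, -⟩ := H.involution_data hna
  have hcl := Subgroup.index_mul_card (Subgroup.centralizer ({H.S.t} : Set G))
  rw [hC, H.hcard] at hcl
  have h1 : (Subgroup.centralizer ({H.S.t} : Set G)).index = p * H.q :=
    Nat.eq_of_mul_eq_mul_right (show 0 < H.e * H.t by have := H.et_ge; omega) (by rw [hcl]; ring)
  rw [← h1]
  have h2 := MulAction.index_stabilizer (ConjAct G) H.S.t
  rw [ConjAct.stabilizer_eq_centralizer] at h2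
  refine Eq.trans ?_ ((Set.ncard_eq_toFinset_card' _).trans (Nat.card_eq_finsetCard _).symm |>.trans
    (Nat.card_congr (Equiv.subtypeEquivRight fun x => Set.mem_toFinset)) |>.symm.trans h2.symm)
  refine Nat.card_congr (Equiv.subtypeEquivRight fun x => ?_)
  rw [ConjAct.mem_orbit_conjAct, isConj_comm]
  constructor
  · exact H.conj_t hna
  · intro hc
    obtain ⟨g, rfl⟩ := isConj_iff.1 hc
    rw [← MulAut.conj_apply, MulEquiv.orderOf_eq]
    exact H.S.ht

end Shape

end Cfsg.Agent.Block.Cube
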