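import Mathlib
import Cfsg.Agent.Lib.Block.Cube.Involution

/-!
A simple group as given by `Shape`: the elements of order dividing `q` have abelian centralizers of
order `q`, inverted by involutions and conjugate to each other.
-/

set_option autoImplicit false
set_option linter.unusedSectionVars false

namespace Cfsg.Agent.Block.Cube

open scoped ComplexConjugate
open Cfsg Cfsg.Agent.Block Cfsg.Agent.Char

universe u

/-- The class equation: products of two conjugates of `s` in the class of `x`. -/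
theorem class_formula {G : Type u} [Group G] [Fintype G] (x s : G) :
    (Nat.card (Subgroup.centralizer ({x} : Set G)) : ℂ) *
        (Nat.card {g : G // IsConj x (s * (g * s * g⁻¹))} : ℂ) =
      (Nat.card G : ℂ) * ∑ χ : IrrCharacter G,
        conj ((χ : G → ℂ) x) * (χ : G → ℂ) s * (χ : G → ℂ) s / (χ : G → ℂ) 1 := by
  classical
  set c := Nat.card (Subgroup.centralizer ({x} : Set G)) with hc
  set f : G → ℂ := fun g => if IsConj x g then 1 else 0 with hfdef
  have hf : IsClassFunction G f := fun g k => by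
    refine if_congr ⟨fun h => h.trans (isConj_iff.2 ⟨k, rfl⟩).symm,
      fun h => h.trans (isConj_iff.2 ⟨k, rfl⟩)⟩ rfl rfl
  have hG : (Nat.card G : ℂ) ≠ 0 := Nat.cast_ne_zero.2 Nat.card_pos.ne'
  have hclass : (Finset.univ.filter fun g : G => IsConj x g).card * c = Nat.card G := by
    have h1 := Finset.card_eq_sum_card_fiberwise (f := fun h : G => h * x * h⁻¹)
      (s := Finset.univ) (t := Finset.univ.filter fun g : G => IsConj x g)
      fun h _ => Finset.mem_filter.2 ⟨Finset.mem_univ _, isConj_iff.2 ⟨h, rfl⟩⟩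
    rw [Finset.sum_congr rfl (g := fun _ => c) fun g hg => by
        rw [← Fintype.card_subtype, ← Nat.card_eq_fintype_card, OrdP.card_fiber,
          if_pos (Finset.mem_filter.1 hg).2],
      Finset.sum_const, smul_eq_mul, Finset.card_univ] at h1
    rw [Nat.card_eq_fintype_card, h1]
  have hinner : ∀ χ : IrrCharacter G, (c : ℂ) * classInner f χ = conj ((χ : G → ℂ) x) := by
    intro χ
    rw [classInner]
    simp only [hfdef, ite_mul, one_mul, zero_mul, ← Finset.sum_filter]
    rw [Finset.sum_congr rfl (g := fun _ => conj ((χ : G → ℂ) x)) fun g hg => by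
        obtain ⟨k, rfl⟩ := isConj_iff.1 (Finset.mem_filter.1 hg).2
        rw [irr_classFun χ],
      Finset.sum_const, nsmul_eq_mul, ← mul_assoc, ← mul_assoc, mul_comm (c : ℂ), mul_assoc _ (c : ℂ),
      mul_comm (c : ℂ) _, ← Nat.cast_mul, hclass, inv_mul_cancel₀ hG, one_mul]
  have h := sum_classFun_mul_conj hf s s
  rw [inv_mul_eq_iff_eq_mul₀ hG] at h
  have hlhs : ∑ g : G, f (s * (g * s * g⁻¹)) =
      (Nat.card {g : G // IsConj x (s * (g * s * g⁻¹))} : ℂ) := by
    simp only [hfdef, Finset.sum_boole]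
    rw [Nat.card_eq_fintype_card, Fintype.card_subtype]
  rw [hlhs] at h
  rw [h, mul_left_comm, Finset.mul_sum]
  refine congrArg _ (Finset.sum_congr rfl fun χ _ => ?_)
  rw [← hinner χ]
  ring

namespace Shape

variable {G : Type u} [Group G] [Fintype G] [IsSimpleGroup G] {p : ℕ} [Fact p.Prime] (H : Shape G p)

theorem of_dvd_q {g : G} (hg : g ≠ 1) (hgq : orderOf g ∣ H.q) :
    ∃ r : ℕ, r.Prime ∧ r ∣ H.q ∧ r ∣ orderOf g :=
  ⟨_, Nat.minFac_prime fun h => hg (orderOf_eq_one_iff.1 h),
    (Nat.minFac_dvd _).trans hgq, Nat.minFac_dvd _⟩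

theorem sum_B_one {g : G} (hg : g ≠ 1) (hgq : orderOf g ∣ H.q) :
    ∑ χ ∈ H.B, (χ : G → ℂ) g = 1 := by
  obtain ⟨r, hr, hrq, hrg⟩ := H.of_dvd_q hg hgq
  obtain ⟨θ, hθ⟩ := Finset.card_pos.1 (show 0 < H.Y.card by rw [H.hY]; have := H.ht; omega)
  have h := H.rel θ hθ g fun h => H.not_dvd_q (h.trans hgq)
  rw [H.vanish_CY hr hrq (Or.inr hθ) hrg,
    Finset.sum_eq_zero fun χ hχ => H.vanish_CY hr hrq (Or.inl hχ) hrg] at h
  linear_combination h

/-- The centralizer of a non-trivial element of order dividing `q`. -/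
theorem centralizer_x (hna : ¬ IsMulCommutative G) {x : G} (hx : x ≠ 1) (hxq : orderOf x ∣ H.q) :
    Nat.card (Subgroup.centralizer ({x} : Set G)) = H.q ∧
      ∃ w : G, orderOf w = 2 ∧
        ∀ a ∈ Subgroup.centralizer ({x} : Set G), w * a * w⁻¹ = a⁻¹ := by
  classical
  set C := Subgroup.centralizer ({x} : Set G) with hC
  set s := H.S.t with hs
  obtain ⟨r, hr, hrq, hrx⟩ := H.of_dvd_q hx hxq
  -- the centralizer has order dividing `q`
  have hCq : Nat.card C ∣ H.q := by
    have key : ∀ l : ℕ, l.Prime → l ∣ Nat.card C → l ∣ H.q := by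
      intro l hl hlC
      by_cases hlr : r = l
      · exact hlr ▸ hrq
      haveI := Fact.mk hl
      obtain ⟨y, hy⟩ := exists_prime_orderOf_dvd_card' (G := C) l hlC
      exact (H.same_side (x := x ^ (orderOf x / r)) (y := (y : G))
        (Commute.pow_left (Subgroup.mem_centralizer_singleton_iff.1 y.2).symm _) hr hl hlr
        (orderOf_pow_orderOf_div (orderOf_pos x).ne' hrx)
        (by rw [Subgroup.orderOf_coe]; exact hy)).2.1 hrq
    have hd : Nat.card C ∣ p * (H.e * H.t) * H.q := H.hcard ▸ Subgroup.card_subgroup_dvd_card C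
    refine Nat.Coprime.dvd_of_dvd_mul_left (Nat.coprime_of_dvd fun l hl h h' => ?_) hd
    rcases hl.dvd_mul.1 h' with h2 | h2
    · exact H.not_dvd_q ((Nat.prime_dvd_prime_iff_eq hl Fact.out).1 h2 ▸ key l hl h)
    · exact H.not_both hl h2 (key l hl h)
  obtain ⟨a, ha, hCs, hR⟩ := H.involution_data hna
  -- the number of pairs
  have hnum : (Nat.card C * Nat.card {g : G // IsConj x (s * (g * s * g⁻¹))} : ℕ) =
      (H.e * H.t) * (H.e * H.t) * H.q := by
    have h := class_formula x s
    have horth : ∑ χ ∈ H.R, conj ((χ : G → ℂ) x) * (a χ : ℂ) = -1 := by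
      have h1 := Cfsg.Agent.Char.sum_irr_mul_conj s x
      rw [if_neg (fun hc => by
        obtain ⟨g, hg⟩ := isConj_iff.1 hc
        have ho : orderOf x = 2 := by
          rw [← hg, ← MulAut.conj_apply, MulEquiv.orderOf_eq]; exact H.S.ht
        exact H.not_both Nat.prime_two H.two_dvd_et (ho ▸ hxq)), H.split,
        Finset.sum_eq_zero (s := H.B) (fun χ hχ => by
          rw [H.value_B_involution H.S.ht hχ, zero_mul]),
        Finset.sum_eq_zero (s := H.C) (fun χ hχ => by
          rw [H.vanish_CY hr hrq (Or.inl hχ) hrx, map_zero, mul_zero]),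
        Finset.sum_eq_zero (s := H.Y) (fun χ hχ => by
          rw [H.vanish_CY hr hrq (Or.inr hχ) hrx, map_zero, mul_zero]),
        Finset.sum_congr rfl (g := fun χ : IrrCharacter G => conj ((χ : G → ℂ) x) * (a χ : ℂ))
          (fun χ _ => by rw [hs, ha]; ring)] at h1
      simp only [trivialIrr, map_one, mul_one, add_zero] at h1
      linear_combination h1
    rw [H.split,
      Finset.sum_eq_zero (s := H.B) (fun χ hχ => by
        rw [H.value_B_involution H.S.ht hχ, mul_zero, zero_div]),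
      Finset.sum_eq_zero (s := H.C) (fun χ hχ => by
        rw [H.vanish_CY hr hrq (Or.inl hχ) hrx, map_zero, zero_mul, zero_mul, zero_div]),
      Finset.sum_eq_zero (s := H.Y) (fun χ hχ => by
        rw [H.vanish_CY hr hrq (Or.inr hχ) hrx, map_zero, zero_mul, zero_mul, zero_div]),
      Finset.sum_congr rfl (g := fun χ : IrrCharacter G =>
        conj ((χ : G → ℂ) x) * (a χ : ℂ) / (p : ℂ)) (fun χ (hχ : χ ∈ H.R) => by
        have hd : ((charDegree (χ : G → ℂ) : ℕ) : ℂ) = (p : ℂ) * (a χ : ℂ) := by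
          exact_mod_cast hR χ hχ
        have hd0 : ((charDegree (χ : G → ℂ) : ℕ) : ℂ) ≠ 0 :=
          Nat.cast_ne_zero.2 (charDeg_pos χ).ne'
        rw [hs, ha, charDeg_spec', hd]
        rw [hd] at hd0
        obtain ⟨h1, h2⟩ := mul_ne_zero_iff.1 hd0
        field_simp),
      ← Finset.sum_div, horth, ← hC, H.hcard] at h
    simp only [trivialIrr, map_one, mul_one, div_one, add_zero] at h
    apply Nat.cast_injective (R := ℂ)
    push_cast
    rw [h]
    have hp0 : (p : ℂ) ≠ 0 := Nat.cast_ne_zero.2 (NeZero.ne p)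
    have het : (H.e : ℂ) * H.t = (p : ℂ) - 1 := by
      rw [eq_sub_iff_add_eq]; exact_mod_cast H.het
    push_cast
    rw [het]
    field_simp
    ring
  -- the involutions inverting `x`
  set I : Finset G := Finset.univ.filter fun w => orderOf w = 2 ∧ orderOf (w * x) = 2 with hI
  have hcount : Nat.card C * Nat.card {g : G // IsConj x (s * (g * s * g⁻¹))} =
      (H.e * H.t) * ((H.e * H.t) * I.card) := by
    have h1 : ∀ g : G, (Finset.univ.filter fun h : G => h * x * h⁻¹ = s * (g * s * g⁻¹)).card =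
        if IsConj x (s * (g * s * g⁻¹)) then Nat.card C else 0 := fun g => by
      rw [← Fintype.card_subtype, ← Nat.card_eq_fintype_card, OrdP.card_fiber]
    have h2 : ∀ h : G, (Finset.univ.filter fun g : G => h * x * h⁻¹ = s * (g * s * g⁻¹)).card =
        if h⁻¹ * s * h ∈ I then H.e * H.t else 0 := by
      intro h
      have hfilter : (Finset.univ.filter fun g : G => h * x * h⁻¹ = s * (g * s * g⁻¹)) =
          Finset.univ.filter fun g : G => g * s * g⁻¹ = s * (h * x * h⁻¹) :=
        Finset.filter_congr fun g _ => by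
          constructor
          · intro e
            rw [e, ← mul_assoc s, Invol.mul_self_of_orderOf_two H.S.ht, one_mul]
          · intro e
            rw [e, ← mul_assoc s, Invol.mul_self_of_orderOf_two H.S.ht, one_mul]
      rw [hfilter, ← Fintype.card_subtype, ← Nat.card_eq_fintype_card, OrdP.card_fiber, hs, hCs,
        ← hs]
      refine if_congr ?_ rfl rfl
      have he : orderOf (h⁻¹ * s * h * x) = orderOf (s * (h * x * h⁻¹)) := by
        rw [← MulEquiv.orderOf_eq (MulAut.conj h) (h⁻¹ * s * h * x), MulAut.conj_apply]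
        congr 1; group
      have hso : orderOf (h⁻¹ * s * h) = 2 := by
        rw [show h⁻¹ * s * h = h⁻¹ * s * h⁻¹⁻¹ by group, ← MulAut.conj_apply, MulEquiv.orderOf_eq]
        exact H.S.ht
      rw [hI, Finset.mem_filter]
      simp only [Finset.mem_univ, true_and, hso, he]
      constructor
      · intro hc
        obtain ⟨g, hg⟩ := isConj_iff.1 hc
        rw [← hg, ← MulAut.conj_apply, MulEquiv.orderOf_eq]
        exact H.S.ht
      · exact H.conj_t hna
    have h3 : ∀ w ∈ I, (Finset.univ.filter fun h : G => h⁻¹ * s * h = w).card = H.e * H.t := by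
      intro w hw
      rw [← Fintype.card_subtype, ← Nat.card_eq_fintype_card,
        Nat.card_congr (Equiv.subtypeEquiv (Equiv.inv G)
          (q := fun h : G => h * s * h⁻¹ = w) fun h => by simp),
        OrdP.card_fiber, if_pos (H.conj_t hna (Finset.mem_filter.1 hw).2.1), hs, hCs]
    have hsum : ∑ g : G, (if IsConj x (s * (g * s * g⁻¹)) then Nat.card C else 0) =
        ∑ h : G, (if h⁻¹ * s * h ∈ I then H.e * H.t else 0) := by
      simp only [← h1, ← h2, Finset.card_filter]
      exact Finset.sum_comm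
    have hfib : (Finset.univ.filter fun h : G => h⁻¹ * s * h ∈ I).card = (H.e * H.t) * I.card := by
      have hmaps : Set.MapsTo (fun h : G => h⁻¹ * s * h)
          ↑(Finset.univ.filter fun h : G => h⁻¹ * s * h ∈ I) ↑I :=
        fun h hh => (Finset.mem_filter.1 hh).2
      rw [Finset.card_eq_sum_card_fiberwise hmaps]
      rw [Finset.sum_congr rfl (g := fun _ => H.e * H.t) fun w hw => by
        rw [← h3 w hw, Finset.filter_filter]
        refine congrArg Finset.card (Finset.filter_congr fun h _ => ?_)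
        exact ⟨fun e => e.2, fun e => ⟨e ▸ hw, e⟩⟩]
      rw [Finset.sum_const, smul_eq_mul, mul_comm]
    rw [← Finset.sum_filter, ← Finset.sum_filter, Finset.sum_const, Finset.sum_const, smul_eq_mul,
      smul_eq_mul, hfib, ← Fintype.card_subtype, ← Nat.card_eq_fintype_card] at hsum
    rw [mul_comm, hsum, mul_comm]
  have hIq : I.card = H.q := by
    have het : 0 < H.e * H.t := by have := H.et_ge; omega
    refine Nat.eq_of_mul_eq_mul_left het (Nat.eq_of_mul_eq_mul_left het ?_)
    rw [← hcount, hnum, mul_assoc]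
  have hinv : ∀ w ∈ I, w * x * w⁻¹ = x⁻¹ := by
    intro w hw
    obtain ⟨-, hw1, hw2⟩ := Finset.mem_filter.1 hw
    rw [Invol.inv_of_orderOf_two hw1]
    refine eq_inv_of_mul_eq_one_left ?_
    have := Invol.mul_self_of_orderOf_two hw2
    rw [← this]
    group
  obtain ⟨w₀, hw₀⟩ := Finset.card_pos.1 (hIq.symm ▸ H.q_pos : 0 < I.card)
  obtain ⟨-, hw₀o, -⟩ := Finset.mem_filter.1 hw₀
  have hw₀2 := Invol.mul_self_of_orderOf_two hw₀o
  have hmap : ∀ w ∈ I, w₀ * w ∈ C := by
    intro w hw
    have h1 := hinv w hw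
    have h2 := hinv w₀ hw₀
    rw [Subgroup.mem_centralizer_singleton_iff]
    calc w₀ * w * x = w₀ * (w * x * w⁻¹) * w := by group
      _ = w₀ * (w₀ * x * w₀⁻¹) * w := by rw [h1, h2]
      _ = (w₀ * w₀) * x * w₀⁻¹ * w := by group
      _ = x * (w₀ * w) := by
        rw [hw₀2, Invol.inv_of_orderOf_two hw₀o, one_mul, mul_assoc]
  set T : Finset G := Finset.univ.filter (fun a => a ∈ C) with hT
  have hTc : T.card = Nat.card C := by
    rw [Nat.card_eq_fintype_card, Fintype.card_subtype]
  have himg : I.image (fun w => w₀ * w) = T := by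
    refine Finset.eq_of_subset_of_card_le (fun z hz => ?_) ?_
    · obtain ⟨w, hw, rfl⟩ := Finset.mem_image.1 hz
      exact Finset.mem_filter.2 ⟨Finset.mem_univ _, hmap w hw⟩
    · rw [Finset.card_image_of_injective _ (mul_right_injective w₀), hIq, hTc]
      exact Nat.le_of_dvd H.q_pos hCq
  refine ⟨?_, w₀, hw₀o, fun c hc => ?_⟩
  · rw [← hTc, ← himg, Finset.card_image_of_injective _ (mul_right_injective w₀), hIq]
  · have hcT : c ∈ I.image (fun w => w₀ * w) := himg ▸ Finset.mem_filter.2 ⟨Finset.mem_univ _, hc⟩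
    obtain ⟨w, hw, hwc⟩ := Finset.mem_image.1 hcT
    have hw2 := Invol.mul_self_of_orderOf_two (Finset.mem_filter.1 hw).2.1
    refine eq_inv_of_mul_eq_one_left ?_
    rw [← hwc, Invol.inv_of_orderOf_two hw₀o]
    calc w₀ * (w₀ * w) * w₀ * (w₀ * w) = (w₀ * w₀) * w * (w₀ * w₀) * w := by group
      _ = 1 := by rw [hw₀2, one_mul, mul_one, hw2]

theorem centralizer_ti (hna : ¬ IsMulCommutative G) {x : G} (hx : x ≠ 1) (hxq : orderOf x ∣ H.q)
    {a : G} (ha : a ∈ Subgroup.centralizer ({x} : Set G)) (ha1 : a ≠ 1) :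
    orderOf a ∣ H.q ∧ Subgroup.centralizer ({a} : Set G) = Subgroup.centralizer ({x} : Set G) := by
  obtain ⟨hc, w, -, hw⟩ := H.centralizer_x hna hx hxq
  have haq : orderOf a ∣ H.q := hc ▸ Subgroup.orderOf_dvd_natCard _ ha
  refine ⟨haq, (Subgroup.eq_of_le_of_card_ge (fun b hb => ?_)
    (by rw [(H.centralizer_x hna ha1 haq).1, hc])).symm⟩
  rw [Subgroup.mem_centralizer_singleton_iff]
  have h1 := hw _ (mul_mem hb ha)
  rw [show w * (b * a) * w⁻¹ = (w * b * w⁻¹) * (w * a * w⁻¹) by group, hw b hb, hw a ha,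
    ← mul_inv_rev, inv_inj] at h1
  exact h1.symm

/-- The elements of order dividing `q` are conjugate into one centralizer. -/
theorem exists_torus (hna : ¬ IsMulCommutative G) :
    ∃ A : Subgroup G, Nat.card A = H.q ∧
      (∀ a ∈ A, a ≠ 1 → Subgroup.centralizer ({a} : Set G) = A) ∧
      (∀ g : G, (g ≠ 1 ∧ ∃ c : G, c * g * c⁻¹ ∈ A) ↔ (g ≠ 1 ∧ orderOf g ∣ H.q)) ∧
      ∃ w : G, orderOf w = 2 ∧ w ∈ Subgroup.normalizer (A : Set G) := by
  classical
  have hq1 : H.q ≠ 1 := by
    have := H.het; have := H.hq; have := H.ht; have := H.e_ge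
    have := Nat.mul_le_mul_left H.e H.ht
    omega
  set r := H.q.minFac with hr
  haveI : Fact r.Prime := ⟨Nat.minFac_prime hq1⟩
  have hrp : r.Prime := Fact.out
  have hrq : r ∣ H.q := Nat.minFac_dvd _
  have hrG : r ∣ Nat.card G := H.hcard ▸ hrq.mul_left _
  obtain ⟨x₀, hx₀⟩ := exists_prime_orderOf_dvd_card' (G := G) r hrG
  have hx₀1 : x₀ ≠ 1 := fun e => by rw [e, orderOf_one] at hx₀; exact hrp.one_lt.ne hx₀
  have hx₀q : orderOf x₀ ∣ H.q := hx₀ ▸ hrq
  obtain ⟨hcard, w, hwo, hw⟩ := H.centralizer_x hna hx₀1 hx₀q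
  set A := Subgroup.centralizer ({x₀} : Set G) with hA
  have hti : ∀ a ∈ A, a ≠ 1 → Subgroup.centralizer ({a} : Set G) = A := fun a ha ha1 =>
    (H.centralizer_ti hna hx₀1 hx₀q ha ha1).2
  refine ⟨A, hcard, hti, fun g => ⟨fun ⟨hg, c, hc⟩ => ⟨hg, ?_⟩, fun ⟨hg, hgq⟩ => ⟨hg, ?_⟩⟩, w, hwo,
    Subgroup.mem_normalizer_iff.2 fun h => ⟨fun hh => by rw [hw h hh]; exact inv_mem hh, fun hh => ?_⟩⟩
  · have := Subgroup.orderOf_dvd_natCard _ hc
    rwa [hcard, ← MulAut.conj_apply, MulEquiv.orderOf_eq] at this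
  · obtain ⟨hgc, -, -, -⟩ := H.centralizer_x hna hg hgq
    obtain ⟨y, hy⟩ := exists_prime_orderOf_dvd_card'
      (G := Subgroup.centralizer ({g} : Set G)) r (hgc.symm ▸ hrq)
    have hyo : orderOf (y : G) = r := by rw [Subgroup.orderOf_coe]; exact hy
    have hpg : ∀ v : G, orderOf v = r → IsPGroup r (Subgroup.zpowers v) := fun v hv =>
      IsPGroup.of_card (n := 1) (by rw [Nat.card_zpowers, hv, pow_one])
    obtain ⟨R, hR⟩ := (hpg _ hyo).exists_le_sylow
    obtain ⟨R₀, hR₀⟩ := (hpg _ hx₀).exists_le_sylow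
    obtain ⟨c, hc⟩ := MulAction.exists_smul_eq G R R₀
    refine ⟨c, ?_⟩
    have hyR : c * (y : G) * c⁻¹ ∈ (R₀ : Subgroup G) := by
      rw [← hc, Sylow.coe_subgroup_smul]
      exact ⟨(y : G), hR (Subgroup.mem_zpowers _), rfl⟩
    haveI : Nontrivial (R₀ : Subgroup G) :=
      ⟨⟨⟨x₀, hR₀ (Subgroup.mem_zpowers _)⟩, 1, fun e => hx₀1 (congrArg Subtype.val e)⟩⟩
    haveI := R₀.isPGroup'.center_nontrivial
    obtain ⟨z, hz⟩ := exists_ne (1 : Subgroup.center (R₀ : Subgroup G))
    set z' : G := ((z : (R₀ : Subgroup G)) : G) with hz'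
    have hz1 : z' ≠ 1 := fun e => hz (Subtype.ext (Subtype.ext e))
    have hzc : ∀ v ∈ (R₀ : Subgroup G), v * z' = z' * v := fun v hv =>
      congrArg Subtype.val (Subgroup.mem_center_iff.1 z.2 ⟨v, hv⟩)
    have hzA : z' ∈ A := Subgroup.mem_centralizer_singleton_iff.2
      (hzc x₀ (hR₀ (Subgroup.mem_zpowers _))).symm
    have hyA : c * (y : G) * c⁻¹ ∈ A := by
      rw [← hti z' hzA hz1, Subgroup.mem_centralizer_singleton_iff]
      exact hzc _ hyR
    have hy1 : c * (y : G) * c⁻¹ ≠ 1 := fun e => by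
      rw [conj_eq_one_iff] at e
      rw [e, orderOf_one] at hyo
      exact hrp.one_lt.ne hyo
    rw [← hti _ hyA hy1, Subgroup.mem_centralizer_singleton_iff]
    calc c * g * c⁻¹ * (c * (y : G) * c⁻¹) = c * (g * y) * c⁻¹ := by group
      _ = c * ((y : G) * g) * c⁻¹ := by rw [Subgroup.mem_centralizer_singleton_iff.1 y.2]
      _ = _ := by group
  · have h1 := hw _ hh
    rw [show w * (w * h * w⁻¹) * w⁻¹ = (w * w) * h * (w * w)⁻¹ by group,
      Invol.mul_self_of_orderOf_two hwo, one_mul, inv_one, mul_one] at h1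
    rw [h1]
    exact inv_mem hh

end Shape

end Cfsg.Agent.Block.Cube
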