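import Mathlib
import Cfsg.Agent.Lib.Block.Cube.Torus
import Cfsg.Agent.Lib.Block.SmallPSL.Recognize

/-!
A simple group as given by `Shape` is `PSL(2, p - 1)`, `p - 1` a power of two.
-/

set_option autoImplicit false
set_option linter.unusedSectionVars false

namespace Cfsg.Agent.Block.Cube

open scoped ComplexConjugate
open Cfsg Cfsg.Agent.Block Cfsg.Agent.Char

universe u

namespace Shape

variable {G : Type u} [Group G] [Fintype G] [IsSimpleGroup G] {p : ℕ} [Fact p.Prime] (H : Shape G p)

theorem card_order_p : Nat.card {g : G // orderOf g = p} = H.t * H.q * (H.e * H.t) := by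
  have hp : p.Prime := Fact.out
  have hC : ∀ a ∈ Subgroup.zpowers H.S.u, a ≠ 1 →
      Subgroup.centralizer ({a} : Set G) = Subgroup.zpowers H.S.u := by
    intro a ha ha1
    rw [← Subgroup.centralizer_closure ({a} : Set G), ← Subgroup.zpowers_eq_closure,
      (H.zpowers_eq ha ha1).2, Subgroup.zpowers_eq_closure, Subgroup.centralizer_closure,
      H.S.centralizer_eq, Subgroup.zpowers_eq_closure]
  have h := SmallPSL.card_conj_union _ hC
  rw [H.hidx, Nat.card_zpowers, H.S.hu] at h
  rw [show H.t * H.q * (H.e * H.t) = H.t * H.q * (p - 1) by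
    rw [show p - 1 = H.e * H.t by have := H.het; omega], ← h]
  refine Nat.card_congr (Equiv.subtypeEquivRight fun g => ⟨fun hg => ⟨fun e => ?_, H.hsyl g hg⟩, ?_⟩)
  · rw [e, orderOf_one] at hg
    exact hp.one_lt.ne hg
  · rintro ⟨hg1, c, hc⟩
    have h1 := (H.zpowers_eq hc (fun e => hg1 (conj_eq_one_iff.1 e))).1
    rwa [← MulAut.conj_apply, MulEquiv.orderOf_eq] at h1

/-- An element neither trivial, nor of order `p`, nor of order dividing `q`. -/
theorem exists_prime_et {g : G} (hgp : orderOf g ≠ p) (hgq : ¬ orderOf g ∣ H.q) :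
    ∃ l : ℕ, l.Prime ∧ l ∣ H.e * H.t ∧ l ∣ orderOf g := by
  by_contra hno
  push Not at hno
  have hd : orderOf g ∣ p * (H.e * H.t) * H.q := H.hcard ▸ orderOf_dvd_natCard g
  refine hgq (Nat.Coprime.dvd_of_dvd_mul_left (Nat.coprime_of_dvd fun l hl h h' => ?_) hd)
  rcases hl.dvd_mul.1 h' with h2 | h2
  · exact hgp (H.ord_eq_p ((Nat.prime_dvd_prime_iff_eq hl Fact.out).1 h2 ▸ h))
  · exact hno l hl h2 h

theorem value_B_order_p {g : G} (hg : orderOf g = p) {χ : IrrCharacter G} (hχ : χ ∈ H.B) :
    (χ : G → ℂ) g = -1 := by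
  obtain ⟨a, ha⟩ := H.hsyl g hg
  obtain ⟨i, hi⟩ := Subgroup.mem_zpowers_iff.1 ha
  rw [← irr_classFun χ g a, ← hi]
  refine H.vB χ hχ i fun e => ?_
  rw [hi, conj_eq_one_iff] at e
  rw [e, orderOf_one] at hg
  exact (Fact.out : p.Prime).one_lt.ne hg

/-- The number of elements of order dividing `q`. -/
theorem count_q :
    (Nat.card {g : G // g ≠ 1 ∧ orderOf g ∣ H.q} : ℤ) =
      (H.B.card : ℤ) * ((H.t : ℤ) * H.q * (H.e * H.t) - (H.e : ℤ) * H.t) := by
  classical
  set f : G → ℂ := fun g => ∑ χ ∈ H.B, (χ : G → ℂ) g with hf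
  have h0 : ∑ g : G, f g = 0 := by
    simp only [hf]
    rw [Finset.sum_comm]
    refine Finset.sum_eq_zero fun χ hχ => ?_
    have h := classInner_irr_ne χ.2 (trivialIrr G).2
      (fun e => H.nontriv χ (Or.inl hχ) (Subtype.ext e))
    rw [classInner, mul_eq_zero] at h
    rcases h with h | h
    · exact absurd h (inv_ne_zero (Nat.cast_ne_zero.2 Nat.card_pos.ne'))
    · simpa [trivialIrr] using h
  have hpt : ∀ g : G, f g = (if g = 1 then (H.B.card : ℂ) * (H.e * H.t : ℕ) else 0) +
      (if orderOf g = p then -(H.B.card : ℂ) else 0) +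
      (if g ≠ 1 ∧ orderOf g ∣ H.q then 1 else 0) := by
    intro g
    by_cases h1 : g = 1
    · subst h1
      rw [if_pos rfl, if_neg (by rw [orderOf_one]; exact (Fact.out : p.Prime).one_lt.ne),
        if_neg (fun h => h.1 rfl), add_zero, add_zero]
      simp only [hf]
      rw [Finset.sum_congr rfl (g := fun _ => ((H.e * H.t : ℕ) : ℂ))
        (fun χ (hχ : χ ∈ H.B) => by rw [charDeg_spec', H.dB χ hχ]), Finset.sum_const, nsmul_eq_mul]
    rw [if_neg h1, zero_add]
    by_cases h2 : orderOf g = p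
    · rw [if_pos h2, if_neg (fun h => H.not_dvd_q (h2 ▸ h.2)), add_zero]
      simp only [hf]
      rw [Finset.sum_congr rfl (g := fun _ => (-1 : ℂ))
        (fun χ (hχ : χ ∈ H.B) => H.value_B_order_p h2 hχ), Finset.sum_const, nsmul_eq_mul,
        mul_neg_one]
    rw [if_neg h2, zero_add]
    by_cases h3 : orderOf g ∣ H.q
    · rw [if_pos ⟨h1, h3⟩]
      exact H.sum_B_one h1 h3
    · rw [if_neg (fun h => h3 h.2)]
      obtain ⟨l, hl, hle, hlg⟩ := H.exists_prime_et h2 h3
      exact Finset.sum_eq_zero fun χ hχ => H.vanish_B hl hle hχ hlg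
  simp only [hpt, Finset.sum_add_distrib] at h0
  rw [Finset.sum_ite_eq' Finset.univ (1 : G), if_pos (Finset.mem_univ _), Finset.sum_ite,
    Finset.sum_const_zero, add_zero, Finset.sum_const, nsmul_eq_mul, Finset.sum_boole,
    ← Fintype.card_subtype, ← Nat.card_eq_fintype_card, H.card_order_p,
    ← Fintype.card_subtype, ← Nat.card_eq_fintype_card] at h0
  apply Int.cast_injective (α := ℂ)
  push_cast at h0 ⊢
  linear_combination h0

/-- `c = 0`, `e = 2`. -/
theorem small (hna : ¬ IsMulCommutative G) : H.c = 0 ∧ H.e = 2 := by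
  classical
  obtain ⟨A, hA, hti, hiff, w, hwo, hwN⟩ := H.exists_torus hna
  have hU := SmallPSL.card_conj_union A hti
  rw [Nat.card_congr (Equiv.subtypeEquivRight hiff), hA] at hU
  have hcount := H.count_q
  rw [hU] at hcount
  set N := Subgroup.normalizer (A : Set G) with hN
  obtain ⟨k, hk⟩ : H.q ∣ Nat.card N := hA ▸ Subgroup.card_dvd_of_le Subgroup.le_normalizer
  have hk2 : 2 ≤ k := by
    by_contra hlt
    have h2 : 2 ∣ H.q * k := by
      rw [← hk, ← hwo]; exact Subgroup.orderOf_dvd_natCard _ hwN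
    interval_cases k
    · exact (Nat.card_pos (α := N)).ne' (by rw [hk, mul_zero])
    · rw [mul_one] at h2
      exact H.not_both Nat.prime_two H.two_dvd_et h2
  have hNG : (H.q * k) * N.index = p * (H.e * H.t) * H.q := by
    rw [← hk, Subgroup.card_mul_index, H.hcard]
  have hNG' : ((H.q : ℤ) * k) * N.index = (p : ℤ) * ((H.e : ℤ) * H.t) * H.q := by
    exact_mod_cast hNG
  have het : (H.e : ℤ) * H.t + 1 = p := by exact_mod_cast H.het
  have hqe : (H.q : ℤ) + H.e = p := by exact_mod_cast H.hq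
  have hb : (H.B.card : ℤ) + H.c + 1 = H.e := by exact_mod_cast H.hB
  have hct : (H.c : ℤ) * H.t + 2 = H.e := by exact_mod_cast H.hct
  have he2 : (2 : ℤ) ≤ H.e := by exact_mod_cast H.e_ge
  have ht3 : (3 : ℤ) ≤ H.t := by exact_mod_cast H.ht
  have hq0 : (0 : ℤ) < H.q := by exact_mod_cast H.q_pos
  rw [Nat.cast_mul, Nat.cast_sub H.q_pos, Nat.cast_one] at hcount
  have hidx : (N.index : ℤ) = (H.B.card : ℤ) * H.t * p := by
    refine mul_right_cancel₀ (b := (H.e : ℤ) * ((H.t : ℤ) - 1))
      (mul_ne_zero (by linarith) (by linarith)) ?_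
    linear_combination hcount + (N.index : ℤ) * (het - hqe) +
      (H.B.card : ℤ) * H.t * H.e * ((H.t : ℤ) * hqe - het)
  have hbk : (H.B.card : ℤ) * k = H.e := by
    refine mul_right_cancel₀ (b := (p : ℤ) * H.t * H.q) ?_ ?_
    · refine mul_ne_zero (mul_ne_zero ?_ (by linarith)) hq0.ne'
      exact_mod_cast NeZero.ne p
    · linear_combination hNG' - (H.q : ℤ) * k * hidx
  have hk2' : (2 : ℤ) ≤ k := by exact_mod_cast hk2
  have hb0 : (0 : ℤ) ≤ H.B.card := Nat.cast_nonneg _
  have h1 : 2 * (H.B.card : ℤ) ≤ H.e := by nlinarith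
  have hc0 : (H.c : ℤ) = 0 := by nlinarith
  have hc : H.c = 0 := by exact_mod_cast hc0
  refine ⟨hc, ?_⟩
  have := H.hct
  rw [hc] at this
  omega

include H in
/-- The group is `PSL(2, p - 1)`. -/
theorem iso_psl (hna : ¬ IsMulCommutative G) :
    ∃ (m : ℕ) (F : Type) (_ : Field F) (_ : Fintype F), Fintype.card F = 2 ^ m ∧ p = 2 ^ m + 1 ∧
      3 < p ∧ Nonempty (G ≃* Matrix.ProjectiveSpecialLinearGroup (Fin 2) F) := by
  classical
  have hp : p.Prime := Fact.out
  obtain ⟨hc, he⟩ := H.small hna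
  have hb : H.B.card = 1 := by have := H.hB; omega
  have het : 2 * H.t + 1 = p := by have := H.het; rwa [he] at this
  have hq : H.q + 2 = p := by have := H.hq; omega
  have hcount := H.count_q
  rw [hb, he, Nat.cast_one, one_mul] at hcount
  set P : Finset G := Finset.univ.filter fun g => orderOf g = p with hP
  set Q : Finset G := Finset.univ.filter fun g => g ≠ 1 ∧ orderOf g ∣ H.q with hQ
  set I : Finset G := Finset.univ.filter fun g => orderOf g = 2 with hI
  set O : Finset G := Finset.univ.filter fun g => g ≠ 1 ∧ orderOf g ≠ p ∧ ¬ orderOf g ∣ H.q with hO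
  have hPc : P.card = H.t * H.q * (H.e * H.t) := by
    rw [← H.card_order_p, Nat.card_eq_fintype_card, Fintype.card_subtype]
  have hQc : (Q.card : ℤ) = (H.t : ℤ) * H.q * (2 * H.t) - 2 * (H.t : ℤ) := by
    rw [hQ, ← Fintype.card_subtype, ← Nat.card_eq_fintype_card, hcount]
    push_cast; ring
  have hIc : I.card = p * H.q := by
    rw [← H.card_involutions hna, Nat.card_eq_fintype_card, Fintype.card_subtype]
  have htot : 1 + P.card + Q.card + O.card = Nat.card G := by
    have h1 : Disjoint P Q := Finset.disjoint_left.2 fun g hg hg' =>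
      H.not_dvd_q ((Finset.mem_filter.1 hg).2 ▸ (Finset.mem_filter.1 hg').2.2)
    have h2 : Disjoint (P ∪ Q) O := Finset.disjoint_left.2 fun g hg hg' => by
      obtain ⟨-, -, ho1, ho2⟩ := Finset.mem_filter.1 hg'
      rcases Finset.mem_union.1 hg with h | h
      · exact ho1 (Finset.mem_filter.1 h).2
      · exact ho2 (Finset.mem_filter.1 h).2.2
    have h3 : P ∪ Q ∪ O = Finset.univ.erase 1 := by
      ext g
      simp only [hP, hQ, hO, Finset.mem_union, Finset.mem_filter, Finset.mem_univ, true_and,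
        Finset.mem_erase, and_true]
      constructor
      · rintro ((h | h) | h)
        · intro e; rw [e, orderOf_one] at h; exact hp.one_lt.ne h
        · exact h.1
        · exact h.1
      · intro h
        by_cases h4 : orderOf g = p
        · exact Or.inl (Or.inl h4)
        · by_cases h5 : orderOf g ∣ H.q
          · exact Or.inl (Or.inr ⟨h, h5⟩)
          · exact Or.inr ⟨h, h4, h5⟩
    have h4 : P.card + Q.card + O.card = (Finset.univ.erase (1 : G)).card := by
      rw [← Finset.card_union_of_disjoint h1, ← Finset.card_union_of_disjoint h2, h3]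
    rw [Finset.card_erase_of_mem (Finset.mem_univ _), Finset.card_univ] at h4
    rw [Nat.card_eq_fintype_card]
    have := Fintype.card_pos (α := G)
    omega
  have hIO : I ⊆ O := fun g hg => by
    have ho := (Finset.mem_filter.1 hg).2
    refine Finset.mem_filter.2 ⟨Finset.mem_univ _, fun e => ?_, fun e => ?_, fun e => ?_⟩
    · rw [e, orderOf_one] at ho; omega
    · have := H.p_ge; omega
    · rw [ho] at e; exact H.not_both Nat.prime_two H.two_dvd_et e
  have hOc : O.card = p * H.q := by
    have h : (1 : ℤ) + P.card + Q.card + O.card = (Nat.card G : ℤ) := by exact_mod_cast htot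
    rw [hQc, hPc, H.hcard, he] at h
    have ht' : (2 : ℤ) * H.t + 1 = p := by exact_mod_cast het
    have hq' : (H.q : ℤ) + 2 = p := by exact_mod_cast hq
    have h' : (O.card : ℤ) = ((p * H.q : ℕ) : ℤ) := by
      push_cast at h ⊢
      rw [← ht'] at h hq' ⊢
      rw [show (H.q : ℤ) = 2 * (H.t : ℤ) - 1 by linarith] at h ⊢
      linear_combination h
    exact_mod_cast h'
  have hOI : O = I := (Finset.eq_of_subset_of_card_le hIO (by rw [hOc, hIc])).symm
  -- `e t = 2 t` is a power of two
  have hpow : ∀ l : ℕ, l.Prime → l ∣ 2 * H.t → l = 2 := by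
    intro l hl hld
    have hle : l ∣ H.e * H.t := he.symm ▸ hld
    haveI := Fact.mk hl
    obtain ⟨g, hg⟩ := exists_prime_orderOf_dvd_card' (G := G) l
      (H.hcard ▸ (hle.mul_left p).mul_right H.q)
    have hgO : g ∈ O := Finset.mem_filter.2 ⟨Finset.mem_univ _,
      fun e => by rw [e, orderOf_one] at hg; exact hl.one_lt.ne hg,
      fun e => H.not_dvd_et ((dvd_of_eq (e.symm.trans hg)).trans hle),
      fun e => H.not_both hl hle (hg ▸ e)⟩
    rw [hOI] at hgO
    rw [← hg]
    exact (Finset.mem_filter.1 hgO).2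
  set f := (2 * H.t).primeFactorsList.length with hf
  have hf2 : 2 * H.t = 2 ^ f :=
    Nat.eq_prime_pow_of_unique_prime_dvd (by have := H.ht; omega) fun {d} hd hdd => hpow d hd hdd
  have hf' : 2 ≤ f := by
    by_contra hlt
    have := H.ht
    interval_cases f <;> simp at hf2 <;> omega
  haveI : Fact (Nat.Prime 2) := ⟨Nat.prime_two⟩
  letI : Fintype (GaloisField 2 f) := Fintype.ofFinite _
  have hF : Fintype.card (GaloisField 2 f) = 2 ^ f := by
    rw [← Nat.card_eq_fintype_card]; exact GaloisField.card 2 f (by omega)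
  refine ⟨f, GaloisField 2 f, inferInstance, inferInstance, hF, by omega, by have := H.p_ge; omega,
    SmallPSL.iso_psl_of_involution_centralizer hf' ?_ ?_ (fun z hz1 hz2 => ?_) hF⟩
  · rw [H.hcard, he, show H.q = 2 * H.t - 1 by omega, hf2]
    congr 2
    omega
  · have hsub : (Finset.univ.filter fun g : G => g ^ (2 ^ f) = 1) ⊆ insert 1 I := by
      intro g hg
      rw [Finset.mem_insert]
      by_cases h1 : g = 1
      · exact Or.inl h1
      right
      rw [← hOI]
      have ho : orderOf g ∣ 2 ^ f := orderOf_dvd_of_pow_eq_one (Finset.mem_filter.1 hg).2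
      refine Finset.mem_filter.2 ⟨Finset.mem_univ _, h1, fun e => ?_, fun e => ?_⟩
      · exact H.not_dvd_et (by rw [he, hf2, ← e]; exact ho)
      · exact h1 (orderOf_eq_one_iff.1 (Nat.eq_one_of_dvd_coprimes H.coprime
          (by rw [he, hf2]; exact ho) e))
    rw [Nat.card_eq_fintype_card, Fintype.card_subtype]
    refine (Finset.card_le_card hsub).trans ((Finset.card_insert_le _ _).trans ?_)
    rw [hIc, ← hf2]
    have h1 : ((p * H.q + 1 : ℕ) : ℤ) = (((2 * H.t) ^ 2 : ℕ) : ℤ) := by
      have ht' : (2 : ℤ) * H.t + 1 = p := by exact_mod_cast het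
      have hq' : (H.q : ℤ) + 2 = p := by exact_mod_cast hq
      push_cast
      rw [← ht', show (H.q : ℤ) = 2 * (H.t : ℤ) - 1 by linarith]
      ring
    exact le_of_eq (by exact_mod_cast h1)
  · have ho : orderOf z = 2 := orderOf_eq_prime (by rw [sq, hz2]) hz1
    have h1 := H.centralizer_involution ho
    rwa [he, hf2] at h1

end Shape

end Cfsg.Agent.Block.Cube
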