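import Mathlib
import Cfsg.Agent.Lib.Block.Cube.Endgame
import Cfsg.Agent.Lib.Block.OrderPrimeCases
import Cfsg.Agent.Lib.Grp.SolvableSubspaceTrans
import Cfsg.Agent.S0732

/-!
A non-abelian simple group of order below `p ^ 3`, `p` a prime divisor of the order, is `PSL(2, p)`
or `PSL(2, p - 1)`.
-/

set_option autoImplicit false
set_option linter.unusedSectionVars false

namespace Cfsg.Agent.Block.Cube

open scoped ComplexConjugate
open Cfsg Cfsg.Agent.Block Cfsg.Agent.Char

universe u

variable {G : Type u} [Group G] [Finite G] [IsSimpleGroup G]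

theorem not_comm (hG : ¬ IsCyclic G) : ¬ IsMulCommutative G := fun h => by
  let _ : CommGroup G := { (inferInstance : Group G) with mul_comm := fun a b => h.is_comm.comm a b }
  exact hG (IsSimpleGroup.isCyclic (α := G))

/-- The prime divides the order once and is at least five. -/
theorem basic (hna : ¬ IsMulCommutative G) {p : ℕ} [Fact p.Prime] (hdvd : p ∣ Nat.card G)
    (hlt : Nat.card G < p ^ 3) :
    5 ≤ p ∧ ∃ m : ℕ, Nat.card G = p * m ∧ ¬ p ∣ m := by
  classical
  have hp : p.Prime := Fact.out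
  obtain ⟨P⟩ : Nonempty (Sylow p G) := inferInstance
  obtain ⟨a, m, hpm, hcard⟩ := Nat.exists_eq_pow_mul_and_not_dvd (Nat.card_pos (α := G)).ne' p hp.ne_one
  have ha : a ≠ 0 := fun h => hpm (by rwa [hcard, h, pow_zero, one_mul] at hdvd)
  obtain ⟨k, hk0, -, hkm, -, -, hfac⟩ := small_sylow_number hna P hcard ha
  have hm0 : 0 < m := Nat.pos_of_ne_zero fun h => hpm (h ▸ dvd_zero p)
  have hpk := Nat.mul_le_mul_left p (show 1 ≤ k by omega)
  have hkm' := Nat.le_of_dvd hm0 hkm
  have ha1 : a = 1 := by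
    by_contra hne
    have h2 : p ^ 2 * m ≤ p ^ a * m :=
      Nat.mul_le_mul_right _ (Nat.pow_le_pow_right hp.pos (by omega))
    have h3 : p ^ 2 * m < p ^ 2 * p := by rw [show p ^ 2 * p = p ^ 3 by ring]; omega
    have := Nat.lt_of_mul_lt_mul_left h3
    omega
  subst ha1
  rw [pow_one] at hcard
  refine ⟨?_, m, hcard, hpm⟩
  by_contra hlt5
  have hp4 : p ≠ 4 := fun h => absurd (h ▸ hp : Nat.Prime 4) (by norm_num)
  rcases (show p = 2 ∨ p = 3 by have := hp.two_le; omega) with rfl | rfl
  · have hk1 : k = 1 := by omega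
    subst hk1
    have := Nat.le_of_dvd (Nat.factorial_pos _) hfac
    norm_num [Nat.factorial] at this
    omega
  · have hk1 : k ≤ 2 := by omega
    interval_cases k
    · have hm : m = 4 ∨ m = 8 := by
        obtain ⟨j, rfl⟩ : 4 ∣ m := hkm
        omega
      rcases hm with rfl | rfl
      · haveI : Fact (Nat.Prime 2) := ⟨Nat.prime_two⟩
        rcases Fus.even_simple_dvd hna (by rw [hcard]; decide) with h | h | h
        · obtain ⟨Q⟩ : Nonempty (Sylow 2 G) := inferInstance
          obtain ⟨j, hj0, -, hjm, -, -, hfac2⟩ := small_sylow_number hna Q (a := 2) (m := 3)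
            (by rw [hcard]; norm_num) two_ne_zero
          have hj1 : j = 1 := by have := Nat.le_of_dvd (by norm_num) hjm; omega
          subst hj1
          have := Nat.le_of_dvd (Nat.factorial_pos _) hfac2
          rw [hcard] at this
          norm_num [Nat.factorial] at this
        · rw [hcard] at h; norm_num at h
        · rw [hcard] at h; norm_num at h
      · rw [hcard] at hfac
        norm_num [Nat.factorial] at hfac
    · have := Nat.le_of_dvd hm0 hkm
      have h7 : m = 7 ∨ m = 8 := by omega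
      rcases h7 with rfl | rfl
      · haveI : Fact (Nat.Prime 7) := ⟨by norm_num⟩
        obtain ⟨Q⟩ : Nonempty (Sylow 7 G) := inferInstance
        obtain ⟨j, hj0, -, hjm, -⟩ := small_sylow_number hna Q (a := 1) (m := 3)
          (by rw [hcard]; norm_num) one_ne_zero
        have := Nat.le_of_dvd (by norm_num) hjm
        omega
      · norm_num at hkm

/-- With at least `2 p + 1` Sylow subgroups they are self-centralizing. -/
theorem centralizer_eq_one (hna : ¬ IsMulCommutative G) {p : ℕ} [Fact p.Prime] (hp5 : 5 ≤ p)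
    (P : Sylow p G) (hP : Nat.card P = p) {m e k c : ℕ} (hcard : Nat.card G = p * m)
    (hpm : ¬ p ∣ m) (hk : 2 ≤ k)
    (he : (Subgroup.centralizer ((P : Subgroup G) : Set G)).relIndex
      (Subgroup.normalizer ((P : Subgroup G) : Set G)) = e) (he1 : 1 < e) (hep : e ∣ p - 1)
    (hc : Nat.card (Subgroup.centralizer ((P : Subgroup G) : Set G)) = p * c)
    (hm : c * e * (p * k + 1) = m) (hlt : Nat.card G < p ^ 3) : c = 1 := by
  classical
  have hp : p.Prime := Fact.out
  by_contra hc1
  set n := p * k + 1 with hn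
  have hpn : 2 * p + 1 ≤ n := by
    have := Nat.mul_le_mul_left p hk
    omega
  have hm2 : m < p * p := by
    rw [hcard, show p ^ 3 = p * (p * p) by ring] at hlt
    exact Nat.lt_of_mul_lt_mul_left hlt
  have hc0 : 0 < c := Nat.pos_of_ne_zero fun h => hpm (by rw [← hm, h]; simp)
  have hce : 2 * (c * e) < p := by
    by_contra hge
    push Not at hge
    have h1 := Nat.mul_le_mul hge hpn
    have h2 : 2 * (c * e) * n = 2 * m := by rw [← hm]; ring
    have h3 : p * (2 * p + 1) = 2 * (p * p) + p := by ring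
    omega
  have hce2 : 2 * e ≤ 2 * (c * e) := Nat.mul_le_mul_left 2 (Nat.le_mul_of_pos_left e hc0)
  obtain ⟨l, v, hl, hlp, hv, hov⟩ := OrdP.exists_prime_elem hpm hc
    (by rw [← hm, mul_assoc]; exact dvd_mul_right c _) hc1
  obtain ⟨M, hM⟩ := exists_isPModular p hp
  obtain ⟨X, y, s, ε, hXc, hX, -, hε, hdy, hrel, hcol⟩ :=
    OrdP.data hna hM (by omega) P hP he he1 hep (by omega)
  obtain ⟨hsum, -⟩ := OrdP.degree_data hrel hcol
  have hdiv : ∀ d : ℕ, d ∣ Nat.card G → ¬ p ∣ d → d ∣ m := fun d h hpd => by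
    rw [hcard] at h
    exact (Nat.Coprime.dvd_mul_left ((hp.coprime_iff_not_dvd.2 hpd).symm)).1 h
  have hall : ∀ χ ∈ X, s χ = 1 ∧ charDegree (χ : G → ℂ) = n := by
    intro χ hχ
    obtain ⟨hne, hs, hd, hcong⟩ := hX χ hχ
    obtain ⟨d, hd'⟩ : ∃ d, d = charDegree (χ : G → ℂ) := ⟨_, rfl⟩
    have hdG : d ∣ Nat.card G := hd' ▸ charDeg_dvd χ
    have hlarge := OrdP.deg_large hna hM hne hs hd hcong hl hlp hv hov
    rw [← hd'] at hd hlarge ⊢
    have hmodm : m % p = c * e := by
      rw [← hm, hn, mul_add, mul_one, ← mul_assoc, mul_comm (c * e) p, mul_assoc, Nat.mul_add_mod,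
        Nat.mod_eq_of_lt (by omega)]
    rcases hlarge with ⟨h1, h2⟩ | ⟨h1, h2⟩
    · have hs1 : s χ = 1 := hs.resolve_right fun h => by
        rw [h, Int.modEq_iff_dvd] at hd
        have hd1 := Nat.div_add_mod d p
        rw [h1] at hd1
        have h3 : (p : ℤ) ∣ 2 := by
          have hd2 : (d : ℤ) = (p : ℤ) * ((d / p : ℕ) : ℤ) + 1 := by exact_mod_cast hd1.symm
          obtain ⟨w, hw⟩ := hd
          exact ⟨-(w + ((d / p : ℕ) : ℤ)), by linear_combination -hw - hd2⟩
        have := Int.le_of_dvd two_pos h3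
        omega
      refine ⟨hs1, ?_⟩
      obtain ⟨d2, hd2⟩ := hdiv d hdG fun h => by
        have := Nat.mod_eq_zero_of_dvd h; omega
      have hd2lt : d2 < p := by
        by_contra hge
        push Not at hge
        have := Nat.mul_le_mul h2 hge
        rw [← hd2] at this
        have h3 : (2 * p + 1) * p = 2 * (p * p) + p := by ring
        omega
      have h4 : d2 = c * e := by
        rw [← hmodm, hd2, Nat.mul_mod, h1, one_mul, Nat.mod_mod, Nat.mod_eq_of_lt hd2lt]
      rw [h4, ← hm, mul_comm d] at hd2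
      exact (Nat.eq_of_mul_eq_mul_left (Nat.mul_pos hc0 (by omega)) hd2).symm
    · exfalso
      obtain ⟨d2, hd2⟩ := hdiv d hdG fun h => by
        have := Nat.mod_eq_zero_of_dvd h; omega
      have hd2lt : 2 * d2 ≤ p := by
        by_contra hge
        push Not at hge
        have h5 := Nat.mul_le_mul h2 (show p + 1 ≤ 2 * d2 by omega)
        have h6 : d * (2 * d2) = 2 * (d * d2) := by ring
        rw [h6, ← hd2] at h5
        obtain ⟨r, rfl⟩ : ∃ r, p = r + 1 := ⟨p - 1, by omega⟩
        rw [show 3 * (r + 1) - 1 = 3 * r + 2 by omega] at h5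
        nlinarith
      have h3 : p ∣ c * e + d2 := by
        have h4 : p ∣ d * d2 + d2 := by
          refine ⟨(d / p + 1) * d2, ?_⟩
          rw [← Nat.succ_mul, Nat.succ_eq_add_one, ← mul_assoc, mul_add, mul_one]
          congr 1
          have := Nat.div_add_mod d p
          omega
        rw [← hd2] at h4
        have h5 := Nat.mod_eq_zero_of_dvd h4
        rw [Nat.add_mod, hmodm] at h5
        refine Nat.dvd_of_mod_eq_zero ?_
        rw [Nat.add_mod, Nat.mod_eq_of_lt (show c * e < p by omega)]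
        exact h5
      have := Nat.le_of_dvd (by have := Nat.mul_pos hc0 (show 0 < e by omega); omega) h3
      omega
  rw [Finset.sum_congr rfl (g := fun _ => (n : ℤ)) (fun χ hχ => by
    rw [(hall χ hχ).1, (hall χ hχ).2, one_mul]), Finset.sum_const, nsmul_eq_mul] at hsum
  have hε1 : ε = 1 := hε.resolve_right fun h => by
    rw [h] at hsum
    have h1 : (0 : ℤ) ≤ (X.card : ℤ) * n := mul_nonneg (Nat.cast_nonneg _) (Nat.cast_nonneg _)
    have h2 : (0 : ℤ) ≤ (charDegree (y : G → ℂ) : ℤ) := Nat.cast_nonneg _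
    linarith
  subst hε1
  rw [one_mul] at hsum hdy
  have hy : charDegree (y : G → ℂ) = 1 + X.card * n := by exact_mod_cast hsum
  have hpy : ¬ p ∣ charDegree (y : G → ℂ) := fun h => by
    have h1 := (Int.modEq_zero_iff_dvd).1
      (hdy.symm.trans (Int.modEq_zero_iff_dvd.2 (Int.natCast_dvd_natCast.2 h)))
    have := Nat.le_of_dvd (by omega) (Int.natCast_dvd_natCast.1 h1)
    omega
  have h5 := hdiv _ (charDeg_dvd y) hpy
  rw [hy, ← hm] at h5
  have hcop : Nat.Coprime (1 + X.card * n) n := by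
    rw [Nat.coprime_add_mul_right_left]; exact Nat.coprime_one_left n
  have h6 := Nat.le_of_dvd (Nat.mul_pos hc0 (by omega)) (hcop.dvd_of_dvd_mul_right h5)
  have h7 := Nat.le_mul_of_pos_left n (show 0 < X.card by omega)
  omega

/-- A simple group is not a transitive group of semi-affine maps of maximal order. -/
theorem no_semiaffine (hna : ¬ IsMulCommutative G) {q : ℕ} (hq : q ≠ 0)
    (f : G →* Equiv.Perm (GaloisField 2 q)) (hf : Function.Injective f)
    (hmem : ∀ g, f g ∈ Cfsg.semiaffineGroup (GaloisField 2 q))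
    (hcard : 2 ^ q * ((2 ^ q - 1) * q) ≤ Nat.card G) : False := by
  classical
  haveI : Fact (Nat.Prime 2) := ⟨Nat.prime_two⟩
  haveI : Finite (GaloisField 2 q) :=
    Nat.finite_of_card_ne_zero (by rw [GaloisField.card 2 q hq]; positivity)
  let Φ : G →* Cfsg.semiaffineGroup (GaloisField 2 q) := f.codRestrict _ hmem
  have hΦ : Function.Bijective Φ :=
    have hinj : Function.Injective Φ := fun a b h => hf (congrArg Subtype.val h)
    (Nat.bijective_iff_injective_and_card Φ).2 ⟨hinj, le_antisymm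
      (Nat.card_le_card_of_injective Φ hinj)
      ((Agent.Grp.SubspaceTrans.card_semiaffine_le (p := 2) q hq).trans hcard)⟩
  let T : Subgroup G :=
    { carrier := {g | ∃ b : GaloisField 2 q, ∀ x, f g x = x + b}
      one_mem' := ⟨0, fun x => by rw [map_one, add_zero]; rfl⟩
      mul_mem' := fun {g h} ⟨b, hb⟩ ⟨b', hb'⟩ => ⟨b' + b, fun x => by
        rw [map_mul, Equiv.Perm.mul_apply, hb', hb, add_assoc]⟩
      inv_mem' := fun {g} ⟨b, hb⟩ => ⟨-b, fun x => (f g).injective (by
        rw [← Equiv.Perm.mul_apply, ← map_mul, mul_inv_cancel, map_one, hb]; simp)⟩ }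
  have hT : T.Normal := by
    refine ⟨fun g ⟨b, hb⟩ h => ?_⟩
    obtain ⟨a, c, φ, hh⟩ := hmem h
    refine ⟨(a : GaloisField 2 q) * φ b, fun x => ?_⟩
    have h2 : f h (f h⁻¹ x) = x := by
      rw [← Equiv.Perm.mul_apply, ← map_mul, mul_inv_cancel, map_one]; rfl
    rw [hh] at h2
    rw [map_mul, map_mul, Equiv.Perm.mul_apply, Equiv.Perm.mul_apply, hb, hh, map_add]
    linear_combination h2
  obtain ⟨g, hg⟩ := hΦ.2 ⟨Equiv.addRight (1 : GaloisField 2 q), 1, 1, RingEquiv.refl _,
    fun x => by simp⟩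
  have hgx : ∀ x, f g x = x + 1 := fun x => by
    have := congrArg Subtype.val hg
    exact (congrArg (fun σ : Equiv.Perm (GaloisField 2 q) => σ x) this).trans rfl
  have hgT : g ∈ T := ⟨1, hgx⟩
  rcases IsSimpleGroup.eq_bot_or_eq_top_of_normal T hT with h | h
  · rw [h, Subgroup.mem_bot] at hgT
    have h0 := hgx 0
    rw [hgT, map_one, Equiv.Perm.one_apply, zero_add] at h0
    exact one_ne_zero h0.symm
  · refine hna ⟨⟨fun a b => hf (Equiv.ext fun x => ?_)⟩⟩
    obtain ⟨u, hu⟩ : a ∈ T := h ▸ Subgroup.mem_top a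
    obtain ⟨w, hw⟩ : b ∈ T := h ▸ Subgroup.mem_top b
    rw [map_mul, map_mul, Equiv.Perm.mul_apply, Equiv.Perm.mul_apply, hu, hw, hu, hw, add_right_comm]

/-- With `p + 1` Sylow subgroups the group is `PSL(2, p)`. -/
theorem iso_psl_p (hna : ¬ IsMulCommutative G) {p : ℕ} [Fact p.Prime] (hp5 : 5 ≤ p) (P : Sylow p G)
    (hn : Nat.card (Sylow p G) = p + 1) {d : ℕ} (hd2 : 2 ≤ d) (hcard : Nat.card G = (p + 1) * p * d)
    (hN : Nat.card (Subgroup.normalizer ((P : Subgroup G) : Set G)) = p * d)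
    (hlt : Nat.card G < p ^ 3) :
    ∃ (F : Type) (_ : Field F) (_ : Fintype F), Fintype.card F = p ∧ 3 < p ∧
      Nonempty (G ≃* Matrix.ProjectiveSpecialLinearGroup (Fin 2) F) := by
  classical
  have hp : p.Prime := Fact.out
  haveI := Fintype.ofFinite (Sylow p G)
  let f : G →* Equiv.Perm (Sylow p G) := MulAction.toPermHom G (Sylow p G)
  have hf : Function.Injective f := by
    rw [← MonoidHom.ker_eq_bot_iff]
    refine (IsSimpleGroup.eq_bot_or_eq_top_of_normal _ f.normal_ker).resolve_right fun h => ?_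
    have h1 : ∀ Q Q' : Sylow p G, Q = Q' := fun Q Q' => by
      obtain ⟨g, rfl⟩ := MulAction.exists_smul_eq G Q Q'
      have hk : g ∈ f.ker := h ▸ Subgroup.mem_top g
      exact (congrArg (fun σ : Equiv.Perm (Sylow p G) => σ Q) hk).symm
    haveI : Subsingleton (Sylow p G) := ⟨h1⟩
    rw [Nat.card_eq_one_iff_unique.2 ⟨inferInstance, ⟨P⟩⟩] at hn
    omega
  haveI : MulAction.IsPretransitive f.range (Sylow p G) := ⟨fun x y => by
    obtain ⟨g, hg⟩ := MulAction.exists_smul_eq G x y
    exact ⟨⟨f g, g, rfl⟩, hg⟩⟩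
  have hdp : d < p := by
    by_contra hge
    push Not at hge
    have h1 := Nat.mul_le_mul_left ((p + 1) * p) hge
    have h2 : (p + 1) * p * p = p ^ 3 + p * p := by ring
    omega
  have h2d : 2 * d ∣ p - 1 := by
    have h1 := small_sylow_succ (by omega) hna P hn
    rw [hN, ← mul_assoc, mul_comm 2 p, mul_assoc] at h1
    exact Nat.dvd_of_mul_dvd_mul_left hp.pos h1
  have e0 : G ≃* f.range := MonoidHom.ofInjective hf
  rcases Cfsg.Agent.S0732.result hp (by rw [← Nat.card_eq_fintype_card, hn]) f.range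
    (d := d) (by rw [← Nat.card_congr e0.toEquiv, hcard]) hdp with
    ⟨h1, -⟩ | ⟨-, ⟨e1⟩⟩ | ⟨q, hq, hpq, hdq, e, he⟩
  · have := Nat.le_of_dvd (by omega) h2d
    omega
  · exact ⟨ZMod p, inferInstance, inferInstance, ZMod.card p, by omega, ⟨e0.trans e1⟩⟩
  · exfalso
    have hdq' : d = q := hdq.resolve_left (by omega)
    refine no_semiaffine hna hq.ne_zero ((Equiv.permCongrHom e).toMonoidHom.comp f)
      ((Equiv.permCongrHom e).injective.comp hf) (fun g => he ⟨f g, g, rfl⟩) (le_of_eq ?_)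
    rw [hcard, ← hpq, hdq', Nat.add_sub_cancel]
    ring

/-- The theorem. -/
theorem main (hG : ¬ IsCyclic G) {p : ℕ} [Fact p.Prime] (hdvd : p ∣ Nat.card G)
    (hlt : Nat.card G < p ^ 3) :
    (∃ (F : Type) (_ : Field F) (_ : Fintype F), Fintype.card F = p ∧ 3 < p ∧
      Nonempty (G ≃* Matrix.ProjectiveSpecialLinearGroup (Fin 2) F)) ∨
    (∃ (m : ℕ) (F : Type) (_ : Field F) (_ : Fintype F), Fintype.card F = 2 ^ m ∧ p = 2 ^ m + 1 ∧
      3 < p ∧ Nonempty (G ≃* Matrix.ProjectiveSpecialLinearGroup (Fin 2) F)) := by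
  classical
  have hp : p.Prime := Fact.out
  haveI := Fintype.ofFinite G
  have hna := not_comm hG
  obtain ⟨hp5, m, hcard, hpm⟩ := basic hna hdvd hlt
  obtain ⟨P⟩ : Nonempty (Sylow p G) := inferInstance
  have hP := OrdP.card_sylow_eq hcard hpm P
  obtain ⟨e, k, hk0, -, he, he1, hep, ⟨c, hc⟩, hprod⟩ := OrdP.exists_e hna hcard hpm P
  set N := Subgroup.normalizer ((P : Subgroup G) : Set G) with hN
  set C := Subgroup.centralizer ((P : Subgroup G) : Set G) with hCdef
  have hNc : Nat.card N = Nat.card C * e := by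
    rw [← he, Subgroup.relIndex, ← Subgroup.card_mul_index (C.subgroupOf N),
      Nat.card_congr (Subgroup.subgroupOfEquivOfLe (Subgroup.centralizer_le_normalizer _)).toEquiv]
  have hidx : N.index = p * k + 1 := by
    refine Nat.eq_of_mul_eq_mul_left (Nat.card_pos (α := N)) ?_
    rw [Subgroup.card_mul_index, hcard, ← hprod, hNc]
  have hm : c * e * (p * k + 1) = m := by
    refine Nat.eq_of_mul_eq_mul_left hp.pos ?_
    rw [← hprod, hc]; ring
  have hc0 : c ≠ 0 := fun h => hpm (by rw [← hm, h]; simp)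
  rcases Nat.lt_or_ge k 2 with hk | hk
  · left
    obtain rfl : k = 1 := by omega
    rw [mul_one] at hidx hm
    refine iso_psl_p hna hp5 P (by rw [Sylow.card_eq_index_normalizer P]; exact hidx) (d := c * e)
      ?_ ?_ ?_ hlt
    · have := Nat.le_mul_of_pos_left e (Nat.pos_of_ne_zero hc0)
      omega
    · rw [hcard, ← hm]; ring
    · rw [← hN, hNc, hc, mul_assoc]
  · right
    obtain rfl := centralizer_eq_one hna hp5 P hP hcard hpm hk he he1 hep hc hm hlt
    rw [one_mul] at hm
    rw [mul_one] at hc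
    obtain ⟨M, hM⟩ := exists_isPModular p hp
    obtain ⟨H⟩ := shape hna hM hp5 P hP hk he he1 hep hc (by rw [hcard, hm]) hlt hidx
    exact H.iso_psl hna

end Cfsg.Agent.Block.Cube
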