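import Mathlib
import Cfsg.Agent.Lib.Block.Cube.Main
import Cfsg.Agent.Lib.Classical.DicksonTorus
import Cfsg.Agent.Lib.Grp.Subnormal

/-!
A perfect group of order below `p ^ 3` with a non-normal Sylow `p`-subgroup and no normal subgroup of
order two.
-/

set_option autoImplicit false
set_option linter.unusedSectionVars false

namespace Cfsg.Agent.Block.Cube

open Cfsg Cfsg.Agent.Block
open scoped commutatorElement

universe u

/-- In even characteristic `SL(2)` is `PSL(2)`. -/
theorem nonempty_sl_iso_psl {F : Type} [Field F] [Fintype F] (hF : Even (Fintype.card F)) :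
    Nonempty (Matrix.ProjectiveSpecialLinearGroup (Fin 2) F ≃* Matrix.SpecialLinearGroup (Fin 2) F) := by
  classical
  have h := Dickson.card_psl (F := F)
  rw [((Dickson.del_cases F).resolve_right fun h' => Nat.not_even_iff_odd.2 h'.2 hF).1, mul_one,
    ← Fus.PSLTwo.natCard_SL_two] at h
  exact ⟨(MulEquiv.ofBijective (QuotientGroup.mk' (Subgroup.center (Matrix.SpecialLinearGroup (Fin 2) F)))
    ((Nat.bijective_iff_surjective_and_card _).2 ⟨QuotientGroup.mk'_surjective _, h.symm⟩)).symm⟩

variable {G : Type u} [Group G] [Finite G]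

theorem perfect_no_index_two (hperf : commutator G = ⊤) {L : Subgroup G} [L.Normal] (h : L.index ≤ 2) :
    L = ⊤ := by
  have h0 := Subgroup.index_ne_zero_of_finite (H := L)
  rw [← Subgroup.index_eq_one]
  by_contra h1
  have h2 : L.index = 2 := by omega
  haveI : IsCyclic (G ⧸ L) := isCyclic_of_prime_card (p := 2) (hp := ⟨Nat.prime_two⟩) (by
    rw [← Subgroup.index, h2])
  letI : CommGroup (G ⧸ L) := IsCyclic.commGroup
  have h3 : commutator G ≤ L := fun g hg => (QuotientGroup.eq_one_iff g).1
    (MonoidHom.mem_ker.1 (Abelianization.commutator_subset_ker (QuotientGroup.mk' L) hg))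
  rw [hperf, top_le_iff] at h3
  exact h1 (Subgroup.index_eq_one.2 h3)

/-- A perfect group has no central Sylow subgroup of prime order. -/
theorem no_normal_sylow (hperf : commutator G = ⊤) {p : ℕ} [Fact p.Prime] (P : Sylow p G)
    (hP : Nat.card (P : Subgroup G) = p) : ¬ (P : Subgroup G).Normal := by
  intro hn
  have hp : p.Prime := Fact.out
  haveI : IsCyclic (P : Subgroup G) := isCyclic_of_prime_card hP
  have hle : commutator G ≤ Subgroup.centralizer ((P : Subgroup G) : Set G) := by
    rw [commutator_def, Subgroup.commutator_le]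
    intro a _ b _
    obtain ⟨x, hx⟩ := IsCyclic.exists_generator (α := (P : Subgroup G))
    have hgen : ∀ g : G, ∃ i : ℤ, g * (x : G) * g⁻¹ = (x : G) ^ i := fun g => by
      obtain ⟨i, hi⟩ := Subgroup.mem_zpowers_iff.1 (hx ⟨_, hn.conj_mem _ x.2 g⟩)
      exact ⟨i, (congrArg Subtype.val hi).symm⟩
    rw [Subgroup.mem_centralizer_iff]
    intro y hy
    obtain ⟨j, hj⟩ := Subgroup.mem_zpowers_iff.1 (hx ⟨y, hy⟩)
    have hy' : y = (x : G) ^ j := (congrArg Subtype.val hj).symm
    obtain ⟨i, hi⟩ := hgen a⁻¹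
    obtain ⟨k, hk⟩ := hgen b⁻¹
    have e1 : b⁻¹ * (a⁻¹ * (x : G) * a) * b = a⁻¹ * (b⁻¹ * (x : G) * b) * a := by
      rw [inv_inv] at hi hk
      rw [hi, hk]
      calc b⁻¹ * (x : G) ^ i * b = (b⁻¹ * (x : G) * (b⁻¹)⁻¹) ^ i := by rw [conj_zpow, inv_inv]
        _ = ((x : G) ^ k) ^ i := by rw [inv_inv, hk]
        _ = ((x : G) ^ i) ^ k := by rw [← zpow_mul, ← zpow_mul, mul_comm]
        _ = (a⁻¹ * (x : G) * (a⁻¹)⁻¹) ^ k := by rw [inv_inv, hi]
        _ = a⁻¹ * (x : G) ^ k * a := by rw [conj_zpow, inv_inv]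
    have e2 : ⁅a, b⁆⁻¹ * (x : G) * ⁅a, b⁆ = (x : G) := by
      rw [commutatorElement_def]
      calc (a * b * a⁻¹ * b⁻¹)⁻¹ * (x : G) * (a * b * a⁻¹ * b⁻¹)
          = b * a * (b⁻¹ * (a⁻¹ * (x : G) * a) * b) * a⁻¹ * b⁻¹ := by group
        _ = b * a * (a⁻¹ * (b⁻¹ * (x : G) * b) * a) * a⁻¹ * b⁻¹ := by rw [e1]
        _ = (x : G) := by group
    have e3 : Commute ⁅a, b⁆ (x : G) := by
      show ⁅a, b⁆ * (x : G) = (x : G) * ⁅a, b⁆
      calc ⁅a, b⁆ * (x : G) = ⁅a, b⁆ * (⁅a, b⁆⁻¹ * (x : G) * ⁅a, b⁆) := by rw [e2]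
        _ = _ := by group
    rw [hy']
    exact (e3.zpow_right j).symm.eq
  rw [hperf] at hle
  have hN : Subgroup.normalizer ((P : Subgroup G) : Set G) ≤
      Subgroup.centralizer ((P : Subgroup G) : Set G) := fun g _ => hle (Subgroup.mem_top g)
  haveI : IsMulCommutative (P : Subgroup G) :=
    ⟨⟨fun a b => by letI : CommGroup (P : Subgroup G) := IsCyclic.commGroup; exact mul_comm a b⟩⟩
  have hc := MonoidHom.ker_transferSylow_isComplement' P hN
  have hker : (MonoidHom.transferSylow P hN).ker = ⊤ := by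
    rw [eq_top_iff, ← hperf]
    letI : CommGroup (P : Subgroup G) := IsCyclic.commGroup
    exact Abelianization.commutator_subset_ker (MonoidHom.transferSylow P hN)
  rw [hker] at hc
  have h1 := hc.card_mul
  rw [Subgroup.card_top, hP] at h1
  have h2 := Nat.card_pos (α := G)
  nlinarith [hp.two_le]

theorem perfect_main (hperf : commutator G = ⊤) {p : ℕ} [Fact p.Prime] (hdvd : p ∣ Nat.card G)
    (hlt : Nat.card G < p ^ 3) (P : Sylow p G) (hP : ¬ (P : Subgroup G).Normal)
    (h2 : ∀ N : Subgroup G, N.Normal → Nat.card N ≠ 2) :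
    (∃ (F : Type) (_ : Field F) (_ : Fintype F), Fintype.card F = p ∧ 3 < p ∧
      Nonempty (G ≃* Matrix.ProjectiveSpecialLinearGroup (Fin 2) F)) ∨
    (∃ (m : ℕ) (F : Type) (_ : Field F) (_ : Fintype F), Fintype.card F = 2 ^ m ∧ p = 2 ^ m + 1 ∧
      3 < p ∧ Nonempty (G ≃* Matrix.SpecialLinearGroup (Fin 2) F)) := by
  classical
  have hp : p.Prime := Fact.out
  -- `p ^ 2` does not divide the order
  obtain ⟨a, m, hpm, hcard⟩ := Nat.exists_eq_pow_mul_and_not_dvd (Nat.card_pos (α := G)).ne' p hp.ne_one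
  have ha : a ≠ 0 := fun h => hpm (by rwa [hcard, h, pow_zero, one_mul] at hdvd)
  have hn1 : Nat.card (Sylow p G) ≠ 1 := fun h => by
    haveI := (Nat.card_eq_one_iff_unique.1 h).1
    exact hP (Sylow.normal_of_subsingleton P)
  have hmod : Nat.card (Sylow p G) % p = 1 :=
    Eq.trans (card_sylow_modEq_one p G) (Nat.one_mod_eq_one.2 hp.ne_one)
  have hPc : Nat.card (P : Subgroup G) = p ^ a := by
    rw [P.card_eq_multiplicity, hcard, Nat.factorization_mul (pow_ne_zero _ hp.ne_zero)
      (fun h => hpm (by rw [h]; exact dvd_zero p)), Finsupp.add_apply, hp.factorization_pow, Finsupp.single_eq_same,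
      Nat.factorization_eq_zero_of_not_dvd hpm, add_zero]
  have ha1 : a = 1 := by
    by_contra hne
    have h1 : (P : Subgroup G).index = m := by
      refine Nat.eq_of_mul_eq_mul_left (pow_pos hp.pos a) ?_
      rw [← hcard, ← hPc, Subgroup.card_mul_index]
    have hm0 : 0 < m := Nat.pos_of_ne_zero fun h => hpm (h ▸ dvd_zero p)
    have h3 := Nat.le_of_dvd hm0 (h1 ▸ P.card_dvd_index)
    have h4 : p ^ 2 * m ≤ p ^ a * m := Nat.mul_le_mul_right _ (Nat.pow_le_pow_right hp.pos (by omega))
    have h5 : p ^ 2 * m < p ^ 2 * p := by rw [show p ^ 2 * p = p ^ 3 by ring]; omega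
    have h6 := Nat.lt_of_mul_lt_mul_left h5
    have h7 := Nat.div_add_mod (Nat.card (Sylow p G)) p
    rcases Nat.eq_zero_or_pos (Nat.card (Sylow p G) / p) with h8 | h8
    · rw [h8, mul_zero] at h7; omega
    · have := Nat.le_mul_of_pos_right p h8
      omega
  subst ha1
  rw [pow_one] at hPc hcard
  -- the subgroup generated by the elements of order `p`
  set L := Subgroup.closure {g : G | orderOf g = p} with hL
  haveI hLn : L.Normal := by
    refine ⟨fun g hg c => ?_⟩
    have hle : L ≤ L.comap (MulAut.conj c).toMonoidHom := by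
      rw [hL, Subgroup.closure_le]
      intro v hv
      refine Subgroup.subset_closure ?_
      show orderOf ((MulAut.conj c) v) = p
      rw [MulEquiv.orderOf_eq]
      exact hv
    exact hle hg
  set R := Cfsg.pPrimeCore p G with hR
  haveI hRn : R.Normal := Cfsg.Agent.Grp.pPrimeCore_isNormal (p := p) (G := G)
  have hRp : ¬ p ∣ Nat.card R := Cfsg.Agent.Grp.pPrimeCore_not_dvd
  set R' := R.subgroupOf L with hR'
  haveI : R'.Normal := inferInstance
  obtain ⟨y, hy⟩ := exists_prime_orderOf_dvd_card' (G := G) p hdvd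
  have hyL : y ∈ L := Subgroup.subset_closure hy
  have hdich : ∀ M : Subgroup L, M.Normal → R' ≤ M → M = R' ∨ M = ⊤ := by
    intro M hM hRM
    by_cases hd : p ∣ Nat.card M
    · right
      obtain ⟨⟨w, hw⟩, hwo⟩ := exists_prime_orderOf_dvd_card' (G := M) p hd
      rw [Subgroup.orderOf_mk] at hwo
      have hall : ∀ z : L, orderOf z = p → z ∈ M := by
        intro z hz
        have hpg : ∀ v : L, orderOf v = p → IsPGroup p (Subgroup.zpowers v) := fun v hv =>
          IsPGroup.of_card (n := 1) (by rw [Nat.card_zpowers, hv, pow_one])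
        obtain ⟨S, hS⟩ := (hpg w hwo).exists_le_sylow
        obtain ⟨T, hT⟩ := (hpg z hz).exists_le_sylow
        have hScard : Nat.card (S : Subgroup L) ≤ p := by
          obtain ⟨k, hk⟩ := S.isPGroup'.exists_card_eq
          have h1 : p ^ k ∣ p * m := hcard ▸ hk ▸
            (Subgroup.card_subgroup_dvd_card _).trans (Subgroup.card_subgroup_dvd_card _)
          rcases k with _ | _ | k
          · rw [hk, pow_zero]; exact hp.pos
          · rw [hk, pow_one]
          · exfalso
            rw [pow_succ', pow_succ'] at h1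
            exact hpm ((dvd_mul_right p (p ^ k)).trans (Nat.dvd_of_mul_dvd_mul_left hp.pos h1))
        have hSeq : (S : Subgroup L) = Subgroup.zpowers w :=
          (Subgroup.eq_of_le_of_card_ge hS (by rw [Nat.card_zpowers, hwo]; exact hScard)).symm
        obtain ⟨c, hc⟩ := MulAction.exists_smul_eq L S T
        have hzT : z ∈ (T : Subgroup L) := hT (Subgroup.mem_zpowers _)
        rw [← hc, Sylow.coe_subgroup_smul, hSeq] at hzT
        obtain ⟨v, hv, hvz⟩ := hzT
        rw [← hvz]
        exact hM.conj_mem v (Subgroup.zpowers_le.2 hw hv) c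
      rw [eq_top_iff]
      intro z _
      have hle : L ≤ M.map L.subtype := by
        conv_lhs => rw [hL]
        rw [Subgroup.closure_le]
        intro g hg
        exact ⟨⟨g, Subgroup.subset_closure hg⟩, hall _ (by rw [Subgroup.orderOf_mk]; exact hg), rfl⟩
      obtain ⟨z', hz', hzz⟩ := hle z.2
      exact Subtype.ext hzz ▸ hz'
    · left
      refine le_antisymm (fun z hz => ?_) hRM
      have hsub : (M.map L.subtype).IsSubnormal := by
        refine Subgroup.IsSubnormal.step _ L ?_ (Subgroup.Normal.isSubnormal hLn) ?_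
        · exact Subgroup.map_subtype_le M
        · rw [Subgroup.subgroupOf, Subgroup.comap_map_eq_self_of_injective (Subgroup.subtype_injective L)]
          exact hM
      exact Cfsg.Agent.Grp.le_pPrimeCore_of_isSubnormal hsub (by
        rw [Subgroup.card_map_of_injective (Subgroup.subtype_injective L)]
        exact (hp.coprime_iff_not_dvd.2 hd).symm) ⟨z, hz, rfl⟩
  have hyR : (⟨y, hyL⟩ : L) ∉ R' := fun h => hRp (by
    rw [← hy]; exact Subgroup.orderOf_dvd_natCard R h)
  haveI : Nontrivial (L ⧸ R') :=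
    ⟨⟨QuotientGroup.mk ⟨y, hyL⟩, 1, fun e => hyR ((QuotientGroup.eq_one_iff _).1 e)⟩⟩
  haveI : IsSimpleGroup (L ⧸ R') := by
    refine ⟨fun K hK => ?_⟩
    have h1 := hdich (K.comap (QuotientGroup.mk' R')) inferInstance (fun z hz => by
      rw [Subgroup.mem_comap]
      change (z : L ⧸ R') ∈ K
      rw [(QuotientGroup.eq_one_iff z).2 hz]
      exact K.one_mem)
    have hsurj := QuotientGroup.mk'_surjective R'
    rcases h1 with h1 | h1
    · left
      rw [← Subgroup.map_comap_eq_self_of_surjective hsurj K, h1]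
      exact (Subgroup.map_eq_bot_iff _).2 (QuotientGroup.ker_mk' R').ge
    · right
      rw [← Subgroup.map_comap_eq_self_of_surjective hsurj K, h1,
        Subgroup.map_top_of_surjective _ hsurj]
  have hSp : p ∣ Nat.card (L ⧸ R') := by
    have h1 : p ∣ Nat.card R' * Nat.card (L ⧸ R') := by
      rw [← Subgroup.index_eq_card R', Subgroup.card_mul_index, ← hy, ← Subgroup.orderOf_mk y hyL]
      exact orderOf_dvd_natCard _
    refine (hp.dvd_mul.1 h1).resolve_left fun h => hRp ?_
    have h2 : Nat.card R' ∣ Nat.card R := Subgroup.card_comap_dvd_of_injective R L.subtype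
      (Subgroup.subtype_injective L)
    exact h.trans h2
  have hfac : Nat.card G = Nat.card (L ⧸ R') * (Nat.card R' * L.index) := by
    rw [← mul_assoc, ← Subgroup.index_eq_card R', mul_comm R'.index, Subgroup.card_mul_index,
      Subgroup.card_mul_index]
  have hnc : ¬ IsCyclic (L ⧸ R') := by
    intro hcyc
    letI : CommGroup (L ⧸ R') := IsCyclic.commGroup
    have hSc : Nat.card (L ⧸ R') = p :=
      ((Nat.prime_dvd_prime_iff_eq hp IsSimpleGroup.prime_card).1 hSp).symm
    let π : L →* G ⧸ R := (QuotientGroup.mk' R).comp L.subtype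
    have hker : π.ker = R' := by
      ext z
      rw [MonoidHom.mem_ker, hR', Subgroup.mem_subgroupOf]
      exact QuotientGroup.eq_one_iff _
    have hrange : Nat.card π.range = p := by
      rw [← Subgroup.index_ker, hker, Subgroup.index_eq_card, hSc]
    have hrn : π.range.Normal := by
      rw [MonoidHom.range_comp, Subgroup.range_subtype]
      exact Subgroup.Normal.map hLn _ (QuotientGroup.mk'_surjective R)
    have hfac' : (Nat.card (G ⧸ R)).factorization p = 1 := by
      have h1 : Nat.card G = Nat.card R * Nat.card (G ⧸ R) := by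
        rw [← Subgroup.index_eq_card, Subgroup.card_mul_index]
      have h2 := congrArg (fun x : ℕ => x.factorization p) h1
      simp only [Nat.factorization_mul Nat.card_pos.ne' Nat.card_pos.ne', Finsupp.add_apply] at h2
      rw [Nat.factorization_eq_zero_of_not_dvd hRp, zero_add, hcard,
        Nat.factorization_mul hp.ne_zero (fun h => hpm (by rw [h]; exact dvd_zero p)), Finsupp.add_apply,
        hp.factorization_self, Nat.factorization_eq_zero_of_not_dvd hpm] at h2
      exact h2.symm
    have hperf' : commutator (G ⧸ R) = ⊤ := by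
      rw [commutator_def, ← Subgroup.map_top_of_surjective _ (QuotientGroup.mk'_surjective R),
        ← Subgroup.map_commutator, ← commutator_def, hperf]
    exact no_normal_sylow hperf' (Sylow.ofCard π.range (by rw [hrange, hfac', pow_one]))
      (by exact hrange) (by exact hrn)
  have hSlt : Nat.card (L ⧸ R') < p ^ 3 := by
    refine lt_of_le_of_lt ?_ hlt
    rw [hfac]
    exact Nat.le_mul_of_pos_right _ (Nat.mul_pos Nat.card_pos
      (Nat.pos_of_ne_zero Subgroup.index_ne_zero_of_finite))
  have hS := main hnc hSp hSlt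
  have hp5 := (basic (not_comm hnc) hSp hSlt).1
  have hbound : Nat.card G < 3 * Nat.card (L ⧸ R') := by
    rcases hS with ⟨F, iF, iT, hF, -, ⟨e⟩⟩ | ⟨k, F, iF, iT, hF, hpk, -, ⟨e⟩⟩
    · rw [Nat.card_congr e.toEquiv]
      have h := Dickson.card_psl (F := F)
      rw [hF] at h
      have hd : Dickson.del F ≤ 2 := by
        rcases Dickson.del_cases F with ⟨h', -⟩ | ⟨h', -⟩ <;> rw [h'] <;> norm_num
      set T := Nat.card (Matrix.ProjectiveSpecialLinearGroup (Fin 2) F)
      have h1 : p * ((p - 1) * (p + 1)) ≤ T * 2 := h ▸ Nat.mul_le_mul_left T hd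
      obtain ⟨r, rfl⟩ : ∃ r, p = r + 1 := ⟨p - 1, by omega⟩
      rw [Nat.add_sub_cancel] at h1
      have h4 : 2 * ((r + 1) * (r + 1)) ≤ 3 * (r * (r + 2)) := by nlinarith
      have h5 := Nat.mul_le_mul_left (r + 1) h4
      ring_nf at hlt h1 h5 ⊢
      omega
    · rw [Nat.card_congr e.toEquiv]
      have h := Dickson.card_psl (F := F)
      have hev : Even (Fintype.card F) := by
        rw [hF]
        refine (Nat.even_pow' ?_).2 even_two
        intro h0
        rw [h0, pow_zero] at hpk
        omega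
      rw [((Dickson.del_cases F).resolve_right fun h' => Nat.not_even_iff_odd.2 h'.2 hev).1, mul_one,
        hF] at h
      rw [h]
      obtain ⟨r, hr⟩ : ∃ r, 2 ^ k = r := ⟨_, rfl⟩
      rw [hr] at hpk ⊢
      subst hpk
      obtain ⟨r', rfl⟩ : ∃ r', r = r' + 4 := ⟨r - 4, by omega⟩
      rw [show r' + 4 - 1 = r' + 3 by omega]
      nlinarith
  rw [hfac, mul_comm 3] at hbound
  have hprod := Nat.lt_of_mul_lt_mul_left hbound
  have hidx0 : 0 < L.index := Nat.pos_of_ne_zero Subgroup.index_ne_zero_of_finite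
  have hR0 : 0 < Nat.card R' := Nat.card_pos
  have hLtop : L = ⊤ := perfect_no_index_two hperf (by
    have := Nat.le_mul_of_pos_left L.index hR0
    omega)
  have hR'R : Nat.card R' = Nat.card R :=
    Nat.card_congr (Subgroup.subgroupOfEquivOfLe (by rw [hLtop]; exact le_top)).toEquiv
  have hR1 : Nat.card R = 1 := by
    have h1 := h2 R hRn
    have := Nat.le_mul_of_pos_right (Nat.card R') hidx0
    omega
  have hbot : R' = ⊥ := Subgroup.card_eq_one.1 (hR'R.trans hR1)
  have e0 : G ≃* L ⧸ R' := ((Subgroup.topEquiv.symm.trans (MulEquiv.subgroupCongr hLtop.symm)).trans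
    (QuotientGroup.quotientBot).symm).trans (QuotientGroup.quotientMulEquivOfEq hbot.symm)
  rcases hS with ⟨F, iF, iT, hF, h3, ⟨e⟩⟩ | ⟨k, F, iF, iT, hF, hpk, h3, ⟨e⟩⟩
  · exact Or.inl ⟨F, iF, iT, hF, h3, ⟨e0.trans e⟩⟩
  · have hev : Even (Fintype.card F) := by
      rw [hF]
      refine (Nat.even_pow' ?_).2 even_two
      intro h0
      rw [h0, pow_zero] at hpk
      omega
    obtain ⟨e'⟩ := nonempty_sl_iso_psl hev
    exact Or.inr ⟨k, F, iF, iT, hF, hpk, h3, ⟨(e0.trans e).trans e'⟩⟩

end Cfsg.Agent.Block.Cube
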